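import Cfsg.Agent.Lib.Goldschmidt.ProductPair
import Cfsg.Agent.Lib.ZStar.Main
import Cfsg.Agent.Lib.Invol.Isolated

/-!
# The case of a central involution
-/

set_option autoImplicit false
set_option linter.unusedSectionVars false
set_option linter.style.haveILetI false

namespace Cfsg.Lib.Goldschmidt.Product

open Subgroup
open scoped commutatorElement

universe u

variable {G : Type u} [Group G] [Finite G]

/-- Dividing by a central involution does not create an odd core. -/
theorem oddCore_quotient_bot (hO : Cfsg.oddCore G = ⊥) (Z : Subgroup G) [Z.Normal] (hZc : Z ≤ center G)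
    (hZ2 : Nat.card Z = 2) : Cfsg.oddCore (G ⧸ Z) = ⊥ := by
  set π := QuotientGroup.mk' Z with hπ
  set m := Nat.card (Cfsg.oddCore (G ⧸ Z)) with hm
  have hmodd : Odd m := ZStar.odd_card_oddCore
  set M := (Cfsg.oddCore (G ⧸ Z)).comap π
  haveI hMn : M.Normal := Subgroup.Normal.comap inferInstance π
  have hcard : Nat.card M = 2 * m := by
    rw [Core.card_comap_eq π (QuotientGroup.mk'_surjective _), QuotientGroup.ker_mk', hZ2]
  have hZM : Z ≤ M := fun z hz => by
    show π z ∈ Cfsg.oddCore (G ⧸ Z)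
    rw [show π z = 1 from (QuotientGroup.eq_one_iff z).2 hz]
    exact one_mem _
  have hN2 : Nat.card (Z.subgroupOf M) = 2 := by rw [Nat.card_congr (subgroupOfEquivOfLe hZM).toEquiv, hZ2]
  have hidx : (Z.subgroupOf M).index = m := by
    have h1 := (Z.subgroupOf M).card_mul_index
    rw [hN2, hcard] at h1
    omega
  obtain ⟨K, hK⟩ := Subgroup.exists_right_complement'_of_coprime (N := Z.subgroupOf M)
    (by rw [hN2, hidx]; exact Nat.coprime_two_left.2 hmodd)
  have hKcard : Nat.card K = m := by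
    have h1 := hK.card_mul_card
    rw [hN2, hcard] at h1
    exact Nat.eq_of_mul_eq_mul_left two_pos h1
  have hn : (K.map M.subtype).Normal := by
    refine ⟨?_⟩
    rintro _ ⟨k, hk, rfl⟩ g
    have hgk : g * (k : G) * g⁻¹ ∈ M := hMn.conj_mem _ k.2 g
    obtain ⟨⟨n, k'⟩, hnk, -⟩ := Subgroup.IsComplement.existsUnique hK ⟨_, hgk⟩
    have hnk' : ((n : M) : G) * ((k' : M) : G) = g * (k : G) * g⁻¹ := congrArg Subtype.val hnk
    have hnm : ((n : M) : G) ∈ Z := n.2
    have hkm : ∀ x : K, ((x : M) : G) ^ m = 1 := fun x => by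
      have h1 : x ^ m = 1 := by rw [← hKcard]; exact pow_card_eq_one'
      simpa using congrArg (fun y : K => ((y : M) : G)) h1
    have hn2 : ((n : M) : G) ^ 2 = 1 := by
      have h1 : (n : Z.subgroupOf M) ^ 2 = 1 := by rw [← hN2]; exact pow_card_eq_one'
      simpa using congrArg (fun y : Z.subgroupOf M => ((y : M) : G)) h1
    have h2 : (g * (k : G) * g⁻¹) ^ m = 1 := by
      rw [← MulAut.conj_apply, ← map_pow, hkm ⟨k, hk⟩, map_one]
    rw [← hnk', (show Commute ((n : M) : G) ((k' : M) : G) from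
      (mem_center_iff.1 (hZc hnm) _).symm).mul_pow, hkm k', mul_one] at h2
    obtain ⟨j, hj⟩ := hmodd
    rw [hj, pow_add, pow_mul, hn2, one_pow, one_mul, pow_one] at h2
    rw [h2, one_mul] at hnk'
    exact ⟨k', k'.2, hnk'⟩
  have hle := ZStar.le_oddCore hn (by rw [card_map_of_injective M.subtype_injective, hKcard]; exact hmodd)
  rw [hO, le_bot_iff, map_eq_bot_iff_of_injective _ M.subtype_injective] at hle
  rw [hle, Subgroup.card_bot] at hKcard
  exact Subgroup.eq_bot_of_card_eq _ hKcard.symm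

variable {S : Sylow 2 G} {S₁ S₂ : Subgroup G}

/-- The images modulo a central involution stay disjoint for one of the at most two candidates. -/
theorem Cl.exists_good_central (hc : Cl S S₁ S₂) (hO : Cfsg.oddCore G = ⊥) {z : G} (hz : orderOf z = 2)
    (hzc : z ∈ center G) :
    ∃ z' : G, orderOf z' = 2 ∧ z' ∈ center G ∧ ∀ s ∈ S₁, s * z' ∈ S₂ → s = 1 ∨ s = z' := by
  haveI : Fact (Nat.Prime 2) := ⟨Nat.prime_two⟩
  have hzS : z ∈ (S : Subgroup G) := by
    obtain ⟨h, hh⟩ := Invol.exists_conj_mem_sylow S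
      (IsPGroup.of_card (n := 1) (by rw [Nat.card_zpowers, hz, pow_one]) : IsPGroup 2 (zpowers z))
    have := hh z (mem_zpowers z)
    rwa [mem_center_iff.1 hzc h, mul_inv_cancel_right] at this
  by_cases hgood : ∀ s ∈ S₁, s * z ∈ S₂ → s = 1 ∨ s = z
  · exact ⟨z, hz, hzc, hgood⟩
  push Not at hgood
  obtain ⟨s, hs, hsz, hs1, -⟩ := hgood
  have hzz := Invol.inv_mul_self hz
  have huniq : ∀ t ∈ S₁, t * z ∈ S₂ → t = s := fun t ht htz => by
    have h1 : t * s⁻¹ ∈ S₁ ⊓ S₂ := ⟨Subgroup.mul_mem _ ht (Subgroup.inv_mem _ hs), by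
      have e : t * s⁻¹ = t * z * (s * z)⁻¹ := by group
      rw [e]
      exact Subgroup.mul_mem _ htz (Subgroup.inv_mem _ hsz)⟩
    rwa [hc.disj, mem_bot, mul_inv_eq_one] at h1
  have hsq : s * s = 1 := by
    have h1 : s * s ∈ S₁ ⊓ S₂ := ⟨mul_mem hs hs, by
      have e : s * z * (s * z) = s * s := by
        calc s * z * (s * z) = s * (z * s) * z := by group
          _ = s * (s * z) * z := by rw [(mem_center_iff.1 hzc s).symm]
          _ = s * s := by rw [← mul_assoc s s z, mul_assoc (s * s), hzz, mul_one]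
      rw [← e]
      exact mul_mem hsz hsz⟩
    rwa [hc.disj, mem_bot] at h1
  have hso : orderOf s = 2 := Invol.orderOf_eq_two_of hs1 hsq
  have hiso : Cfsg.IsIsolatedInvolution s := Invol.isolated_of_sylow S hso fun g hg => by
    refine huniq _ (hc.h1.2 s hs g hg) ?_
    have e : g * s * g⁻¹ * z = g * (s * z) * g⁻¹ := by
      calc g * s * g⁻¹ * z = g * s * (g⁻¹ * z) := by group
        _ = g * s * (z * g⁻¹) := by rw [mem_center_iff.1 hzc g⁻¹]
        _ = _ := by group
    rw [e]
    exact hc.h2.2 _ hsz g (by rw [← e]; exact mul_mem hg hzS)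
  refine ⟨s, hso, ZStar.mem_center_of_isolated hO hiso, fun t ht hts => ?_⟩
  have h1 : t * s ∈ S₁ ⊓ S₂ := ⟨mul_mem ht hs, hts⟩
  rw [hc.disj, mem_bot] at h1
  exact Or.inr (by rw [eq_inv_of_mul_eq_one_left h1, Invol.inv_eq_self hso])

/-- The theorem for a group with trivial odd core and a central involution. -/
theorem Cl.of_central_involution (hc : Cl S S₁ S₂) (hO : Cfsg.oddCore G = ⊥) (ih : Below.{u} (Nat.card G))
    {z₀ : G} (hz₀ : orderOf z₀ = 2) (hz₀c : z₀ ∈ center G) :
    ⁅normalClosure (S₁ : Set G), normalClosure (S₂ : Set G)⁆ = ⊥ := by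
  obtain ⟨z, hz, hzc, hgood⟩ := hc.exists_good_central hO hz₀ hz₀c
  set Z := zpowers z with hZdef
  have hZc : Z ≤ center G := zpowers_le.2 hzc
  haveI : Z.Normal := ⟨fun x hx k => by rwa [mem_center_iff.1 (hZc hx) k, mul_inv_cancel_right]⟩
  have hZ2 : Nat.card Z = 2 := by rw [hZdef, Nat.card_zpowers, hz]
  have hmemZ : ∀ x ∈ Z, x = 1 ∨ x = z := by
    intro x hx
    rw [hZdef, mem_zpowers_iff] at hx
    obtain ⟨k, rfl⟩ := hx
    rw [← zpow_mod_orderOf, hz]
    rcases Int.emod_two_eq k with h | h <;> rw [Nat.cast_ofNat, h] <;> simp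
  set π := QuotientGroup.mk' Z
  have hπ : Function.Surjective π := QuotientGroup.mk'_surjective _
  have hlt : Nat.card (G ⧸ Z) < Nat.card G :=
    Core.card_quotient_lt fun h => by rw [h, Subgroup.card_bot] at hZ2; omega
  obtain ⟨T, hT⟩ := hc.map π hπ (fun x hx g h => hc.fusion π hx h) (fun x hx g h => hc.symm.fusion π hx h) (by
    intro x hx y hy hxy
    rw [QuotientGroup.mk'_apply, QuotientGroup.mk'_apply, QuotientGroup.eq] at hxy
    rcases hmemZ _ hxy with h | h
    · have hxy' : x = y := inv_mul_eq_one.1 h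
      have h1 : x ∈ S₁ ⊓ S₂ := ⟨hx, hxy' ▸ hy⟩
      rw [hc.disj, mem_bot] at h1
      rw [h1, map_one]
    · have hy' : y = x * z := inv_mul_eq_iff_eq_mul.1 h
      rcases hgood x hx (hy' ▸ hy) with rfl | rfl
      · exact map_one _
      · exact (QuotientGroup.eq_one_iff _).2 (mem_zpowers _))
  have hbar := (ih (G ⧸ Z) hlt T _ _ hT.h1 hT.h2 hT.comm hT.disj).trans (oddCore_quotient_bot hO Z hZc hZ2).le
  set N₁ := normalClosure (S₁ : Set G) with hN₁
  set N₂ := normalClosure (S₂ : Set G) with hN₂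
  have hcomZ : ⁅N₁, N₂⁆ ≤ Z := by
    have h1 : ⁅N₁, N₂⁆.map π ≤ ⊥ := by
      rw [Subgroup.map_commutator, hN₁, hN₂, Subgroup.map_normalClosure _ _ hπ,
        Subgroup.map_normalClosure _ _ hπ, ← coe_map, ← coe_map]
      exact hbar
    rw [le_bot_iff, Subgroup.map_eq_bot_iff, QuotientGroup.ker_mk'] at h1
    exact h1
  have key : ∀ s ∈ S₁, N₂ ≤ centralizer ({s} : Set G) := by
    intro s hs
    have hinv : ∀ n ∈ N₂, ∀ x ∈ S₂, n * x * n⁻¹ ∈ centralizer ({s} : Set G) := by
      intro n hn x hx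
      have hd : n⁻¹ * s * n⁻¹⁻¹ * s⁻¹ ∈ center G := by
        refine hZc ((commutator_comm N₂ N₁).le.trans hcomZ ?_)
        exact commutator_mem_commutator (inv_mem hn) (subset_normalClosure hs)
      obtain ⟨d, hdc, hde⟩ : ∃ d ∈ center G, n⁻¹ * s * n = d * s :=
        ⟨_, hd, by group⟩
      have hxs : x * (d * s) = d * s * x := by
        rw [← mul_assoc, mem_center_iff.1 hdc x, mul_assoc, ← hc.comm s hs x hx, mul_assoc]
      rw [← hde] at hxs
      refine mem_centralizer_singleton_iff.2 ?_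
      calc n * x * n⁻¹ * s = n * (x * (n⁻¹ * s * n)) * n⁻¹ := by group
        _ = n * (n⁻¹ * s * n * x) * n⁻¹ := by rw [hxs]
        _ = s * (n * x * n⁻¹) := by group
    exact hc.symm.normalClosure_le_of_inner hinv
  haveI : N₂.Normal := normalClosure_normal
  have hCn : (centralizer (N₂ : Set G)).Normal := inferInstance
  rw [commutator_eq_bot_iff_le_centralizer]
  exact normalClosure_le_normal fun s hs => mem_centralizer_iff.2 fun y hy =>
    mem_centralizer_singleton_iff.1 (key s hs hy)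

end Cfsg.Lib.Goldschmidt.Product
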