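import Cfsg.Agent.Lib.Goldschmidt.ProductInvol
import Cfsg.Agent.Lib.Goldschmidt.ProductCenter
import Cfsg.Agent.Lib.PGroup.Basic

/-!
# Goldschmidt's product theorem

Two commuting disjoint subgroups of a Sylow 2-subgroup, each strongly closed in it, have normal
closures commuting modulo the odd core.
-/

set_option autoImplicit false
set_option linter.unusedSectionVars false
set_option linter.style.haveILetI false

namespace Cfsg.Lib.Goldschmidt.Product

open Subgroup
open scoped commutatorElement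

universe u

variable {G : Type u} [Group G] [Finite G] {S : Sylow 2 G} {S₁ S₂ : Subgroup G}

theorem exists_involution {R : Subgroup G} (hR : IsPGroup 2 R) (hne : R ≠ ⊥) :
    ∃ u ∈ R, orderOf u = 2 := by
  haveI : Fact (Nat.Prime 2) := ⟨Nat.prime_two⟩
  obtain ⟨k, hk⟩ := IsPGroup.iff_card.1 hR
  rcases k with _ | k
  · exact absurd (Subgroup.eq_bot_of_card_eq R (by simpa using hk)) hne
  obtain ⟨u, hu⟩ := exists_prime_orderOf_dvd_card' (G := R) 2 (by rw [hk]; exact dvd_pow_self 2 (by omega))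
  exact ⟨u, u.2, by rw [Subgroup.orderOf_coe, hu]⟩

/-- With trivial center each of the subgroups has two involutions. -/
theorem Cl.exists_two (hc : Cl S S₁ S₂) (hO : Cfsg.oddCore G = ⊥) (hZ : center G = ⊥) (hne : S₁ ≠ ⊥) :
    ∃ u v : G, orderOf u = 2 ∧ orderOf v = 2 ∧ u ≠ v ∧ u ∈ S₁ ∧ v ∈ S₁ := by
  obtain ⟨u, huS, hu⟩ := exists_involution (S.2.to_le hc.h1.1) hne
  by_contra hcon
  push Not at hcon
  have hiso : Cfsg.IsIsolatedInvolution u := Invol.isolated_of_sylow S hu fun g hg => by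
    by_contra hne'
    exact hcon (g * u * g⁻¹) u (by rw [Invol.orderOf_conj_eq, hu]) hu hne' (hc.h1.2 u huS g hg) huS
  have h1 := ZStar.mem_center_of_isolated hO hiso
  rw [hZ, mem_bot] at h1
  exact Invol.ne_one hu h1

/-- The normal subgroup generated by the involutions of type one. -/
def InvGen (S₁ : Subgroup G) : Subgroup G := normalClosure {a : G | orderOf a = 2 ∧ Typ S₁ a}

instance invGen_normal (S₁ : Subgroup G) : (InvGen S₁).Normal := normalClosure_normal

theorem invGen_le {X : Subgroup G} (h : ∀ a : G, orderOf a = 2 → Typ S₁ a → a ∈ X) : InvGen S₁ ≤ X := by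
  refine (closure_le _).2 fun z hz => ?_
  obtain ⟨b, ⟨hb, htb⟩, hbz⟩ := Group.mem_conjugatesOfSet_iff.1 hz
  obtain ⟨k, rfl⟩ := isConj_iff.1 hbz
  exact h _ (by rw [Invol.orderOf_conj_eq, hb]) (htb.conj k)

theorem invGen_ne_bot {u : G} (hu : orderOf u = 2) (huS : u ∈ S₁) : InvGen S₁ ≠ ⊥ := fun h => by
  have h1 : u ∈ InvGen S₁ := subset_normalClosure ⟨hu, Typ.of_mem huS⟩
  rw [h, mem_bot] at h1
  exact Invol.ne_one hu h1

/-- A nontrivial normal subgroup commuting with a normal subgroup `P` forces `PS` to be proper. -/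
theorem sup_sylow_ne_top (hO : Cfsg.oddCore G = ⊥) (hZ : center G = ⊥) (S : Sylow 2 G)
    (P Q : Subgroup G) [P.Normal] [Q.Normal] (hcm : ∀ x ∈ P, ∀ y ∈ Q, x * y = y * x) (hQ : Q ≠ ⊥) :
    P ⊔ (S : Subgroup G) ≠ ⊤ := by
  intro htop
  haveI : Fact (Nat.Prime 2) := ⟨Nat.prime_two⟩
  set π := QuotientGroup.mk' P
  have hSπ : (S : Subgroup G).map π = ⊤ := by
    have h1 := congrArg (Subgroup.map π) htop
    rwa [Subgroup.map_sup, (Subgroup.map_eq_bot_iff _).2 (QuotientGroup.ker_mk' P).ge, bot_sup_eq,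
      map_top_of_surjective _ (QuotientGroup.mk'_surjective _)] at h1
  have hM : ∀ m ∈ P ⊓ Q, ∃ l : ℕ, m ^ 2 ^ l = 1 := by
    intro m hm
    obtain ⟨l, d, hd, hld⟩ := Nat.exists_eq_two_pow_mul_odd (orderOf_pos m).ne'
    refine ⟨l, ?_⟩
    set y := m ^ 2 ^ l with hy
    have hyM : y ∈ P ⊓ Q := pow_mem hm _
    have hyo : Odd (orderOf y) := by
      rw [hy, orderOf_pow, hld, Nat.gcd_mul_right_left, Nat.mul_div_cancel_left _ (Nat.two_pow_pos l)]
      exact hd
    set N := (zpowers y).subgroupOf (P ⊓ Q) with hN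
    have hNn : N.Normal := ⟨fun w hw g => by
      have : g * w * g⁻¹ = w := Subtype.ext (by
        show (g : G) * (w : G) * (g : G)⁻¹ = w
        rw [hcm (g : G) g.2.1 (w : G) w.2.2, mul_inv_cancel_right])
      rwa [this]⟩
    have hNo : Odd (Nat.card N) := by
      rw [Nat.card_congr (subgroupOfEquivOfLe (zpowers_le.2 hyM)).toEquiv, Nat.card_zpowers]
      exact hyo
    have hOM : Cfsg.oddCore ↥(P ⊓ Q) = ⊥ := by
      have h1 : ((Cfsg.oddCore ↥(P ⊓ Q)).map (P ⊓ Q).subtype).Normal :=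
        ConjAct.normal_of_characteristic_of_normal
      have h2 := ZStar.le_oddCore h1
        (by rw [card_map_of_injective (P ⊓ Q).subtype_injective]; exact ZStar.odd_card_oddCore)
      rwa [hO, le_bot_iff, map_eq_bot_iff_of_injective _ (P ⊓ Q).subtype_injective] at h2
    have h3 : (⟨y, hyM⟩ : ↥(P ⊓ Q)) ∈ Cfsg.oddCore ↥(P ⊓ Q) :=
      ZStar.le_oddCore hNn hNo (mem_subgroupOf.2 (mem_zpowers y))
    rw [hOM, mem_bot] at h3
    exact congrArg Subtype.val h3
  have hQ2 : IsPGroup 2 Q := by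
    intro x
    have hxS : π (x : G) ∈ (S : Subgroup G).map π := hSπ ▸ mem_top _
    obtain ⟨k, hk⟩ := (S.2.map π) ⟨_, hxS⟩
    have hk' : (x : G) ^ 2 ^ k ∈ P := by
      refine (QuotientGroup.eq_one_iff _).1 ?_
      show π ((x : G) ^ 2 ^ k) = 1
      rw [map_pow]
      exact congrArg Subtype.val hk
    obtain ⟨l, hl⟩ := hM _ ⟨hk', pow_mem x.2 _⟩
    refine ⟨k + l, Subtype.ext ?_⟩
    rw [SubmonoidClass.coe_pow, pow_add, pow_mul, hl, OneMemClass.coe_one]
  have hQS : Q ≤ (S : Subgroup G) := by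
    obtain ⟨g, hg⟩ := Invol.exists_conj_mem_sylow S hQ2
    intro x hx
    have h1 : g⁻¹ * x * g ∈ Q := by
      simpa using (inferInstance : Q.Normal).conj_mem x hx g⁻¹
    have h2 := hg _ h1
    rwa [show g * (g⁻¹ * x * g) * g⁻¹ = x by group] at h2
  have hQS' : (Q.subgroupOf (S : Subgroup G)) ≠ ⊥ := by
    rwa [Ne, subgroupOf_eq_bot, disjoint_iff, inf_eq_left.2 hQS]
  obtain ⟨z, hz, hz1⟩ :=
    (Subgroup.bot_or_exists_ne_one _).resolve_left (PGroup.inf_center_ne_bot S.2 hQS')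
  refine hz1 (Subtype.ext ?_)
  have hzc : (z : G) ∈ center G := by
    refine mem_center_iff.2 fun g => ?_
    have hg : g ∈ P ⊔ (S : Subgroup G) := htop ▸ mem_top g
    obtain ⟨p, hp, s, hs, rfl⟩ := mem_sup_of_normal_left.1 hg
    have h1 : Commute p (z : G) := hcm p hp _ (mem_subgroupOf.1 hz.1)
    have h2 : Commute s (z : G) := congrArg Subtype.val (mem_center_iff.1 hz.2 ⟨s, hs⟩)
    exact h1.mul_left h2
  rwa [hZ, mem_bot] at hzc

/-- A product of a normal subgroup and a Sylow 2-subgroup has trivial odd core. -/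
theorem oddCore_sup_sylow (hO : Cfsg.oddCore G = ⊥) (S : Sylow 2 G) (N : Subgroup G) [N.Normal] :
    Cfsg.oddCore ↥(N ⊔ (S : Subgroup G)) = ⊥ := by
  haveI : Fact (Nat.Prime 2) := ⟨Nat.prime_two⟩
  set K := N ⊔ (S : Subgroup G) with hK
  set L := (Cfsg.oddCore K).map K.subtype with hL
  have hLodd : Odd (Nat.card L) := by
    rw [card_map_of_injective K.subtype_injective]; exact ZStar.odd_card_oddCore
  set π := QuotientGroup.mk' N
  have hLπ : L.map π ≤ (S : Subgroup G).map π := by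
    refine (map_mono (map_subtype_le _)).trans ?_
    rw [hK, Subgroup.map_sup, (Subgroup.map_eq_bot_iff _).2 (QuotientGroup.ker_mk' N).ge, bot_sup_eq]
  have hLN : L ≤ N := by
    obtain ⟨k, hk⟩ := IsPGroup.iff_card.1 (S.2.map π)
    have h1 : Nat.card (L.map π) ∣ 2 ^ k := hk ▸ card_dvd_of_le hLπ
    obtain ⟨i, -, hi⟩ := (Nat.dvd_prime_pow Nat.prime_two).1 h1
    have h2 : Odd (Nat.card (L.map π)) := hLodd.of_dvd_nat (Core.card_map_dvd _ _)
    rw [hi] at h2
    rcases i with _ | i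
    · rw [pow_zero] at hi
      have h3 := Subgroup.eq_bot_of_card_eq _ hi
      rwa [Subgroup.map_eq_bot_iff, QuotientGroup.ker_mk'] at h3
    · exact absurd h2 (Nat.not_odd_iff_even.2 ((Nat.even_pow' (by omega)).2 even_two))
  have hn : (L.subgroupOf N).Normal := by
    refine (normal_subgroupOf_iff_le_normalizer hLN).2 ((le_sup_left : N ≤ K).trans ?_)
    exact (normal_subgroupOf_iff_le_normalizer (map_subtype_le _)).1
      (by rw [subgroupOf, comap_map_eq_self_of_injective (Subgroup.subtype_injective _)]; infer_instance)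
  have hON : Cfsg.oddCore N = ⊥ := by
    have h1 : ((Cfsg.oddCore N).map N.subtype).Normal := ConjAct.normal_of_characteristic_of_normal
    have h2 := ZStar.le_oddCore h1
      (by rw [card_map_of_injective N.subtype_injective]; exact ZStar.odd_card_oddCore)
    rwa [hO, le_bot_iff, map_eq_bot_iff_of_injective _ N.subtype_injective] at h2
  have h4 := ZStar.le_oddCore hn (by rw [Nat.card_congr (subgroupOfEquivOfLe hLN).toEquiv]; exact hLodd)
  rw [hON, le_bot_iff, subgroupOf_eq_bot, disjoint_iff, inf_eq_left.2 hLN] at h4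
  exact (map_eq_bot_iff_of_injective _ K.subtype_injective).1 h4

/-- In a proper overgroup of `S` with trivial odd core the local normal closures commute. -/
theorem Cl.commute_in (hc : Cl S S₁ S₂) (ih : Below.{u} (Nat.card G)) {K : Subgroup G}
    (hSK : (S : Subgroup G) ≤ K) (hK : K ≠ ⊤) (hOK : Cfsg.oddCore K = ⊥) :
    ∃ M₁ M₂ : Subgroup G, (∀ x ∈ M₁, ∀ y ∈ M₂, x * y = y * x) ∧
      (∀ k ∈ K, ∀ x ∈ S₁, k * x * k⁻¹ ∈ M₁) ∧ (∀ k ∈ K, ∀ x ∈ S₂, k * x * k⁻¹ ∈ M₂) := by
  have hcl : ∀ {R : Subgroup G}, Cfsg.IsStronglyClosed R (S : Subgroup G) →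
      Cfsg.IsStronglyClosed (R.subgroupOf K) ((S.subtype hSK : Sylow 2 K) : Subgroup K) := by
    intro R hR
    rw [Sylow.coe_subtype]
    exact ⟨fun x hx => mem_subgroupOf.2 (hR.1 (mem_subgroupOf.1 hx)), fun x hx g hg =>
      mem_subgroupOf.2 (hR.2 (x : G) (mem_subgroupOf.1 hx) (g : G) (mem_subgroupOf.1 hg))⟩
  have h := (ih K (Core.lt_card_of_ne_top hK) (S.subtype hSK) (S₁.subgroupOf K) (S₂.subgroupOf K) (hcl hc.h1)
    (hcl hc.h2) (fun a ha b hb => Subtype.ext (hc.comm _ (mem_subgroupOf.1 ha) _ (mem_subgroupOf.1 hb)))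
    (eq_bot_iff.2 fun x hx => Subtype.ext (by
      have h1 : (x : G) ∈ S₁ ⊓ S₂ := ⟨hx.1, hx.2⟩
      rwa [hc.disj, mem_bot] at h1))).trans hOK.le
  rw [le_bot_iff] at h
  set A₁ := normalClosure (S₁.subgroupOf K : Set K)
  set A₂ := normalClosure (S₂.subgroupOf K : Set K)
  refine ⟨A₁.map K.subtype, A₂.map K.subtype, ?_, ?_, ?_⟩
  · rintro _ ⟨x, hx, rfl⟩ _ ⟨y, hy, rfl⟩
    rw [← map_mul, ← map_mul, Core.commutator_eq_bot_iff_forall.1 h x hx y hy]
  · exact fun k hk x hx => ⟨⟨k, hk⟩ * ⟨x, hSK (hc.h1.1 hx)⟩ * ⟨k, hk⟩⁻¹,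
      (normalClosure_normal : A₁.Normal).conj_mem _ (subset_normalClosure (mem_subgroupOf.2 hx)) _, rfl⟩
  · exact fun k hk x hx => ⟨⟨k, hk⟩ * ⟨x, hSK (hc.h2.1 hx)⟩ * ⟨k, hk⟩⁻¹,
      (normalClosure_normal : A₂.Normal).conj_mem _ (subset_normalClosure (mem_subgroupOf.2 hx)) _, rfl⟩

/-- The theorem for trivial odd core. -/
theorem Cl.of_oddCore_bot (hc : Cl S S₁ S₂) (ih : Below.{u} (Nat.card G)) (hO : Cfsg.oddCore G = ⊥) :
    ⁅normalClosure (S₁ : Set G), normalClosure (S₂ : Set G)⁆ = ⊥ := by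
  haveI : Fact (Nat.Prime 2) := ⟨Nat.prime_two⟩
  rcases eq_or_ne (center G) ⊥ with hZ | hZ
  swap
  · obtain ⟨z, hz, hz2⟩ : ∃ z ∈ center G, orderOf z = 2 := by
      by_cases h2 : 2 ∣ Nat.card (center G)
      · obtain ⟨z, hz⟩ := exists_prime_orderOf_dvd_card' (G := center G) 2 h2
        exact ⟨z, z.2, by rw [Subgroup.orderOf_coe, hz]⟩
      · exfalso
        have h := ZStar.le_oddCore (inferInstance : (center G).Normal)
          (Nat.not_even_iff_odd.1 fun he => h2 (even_iff_two_dvd.1 he))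
        rw [hO, le_bot_iff] at h
        exact hZ h
    exact hc.of_central_involution hO ih hz2 hz
  have hnb : normalClosure ((⊥ : Subgroup G) : Set G) = (⊥ : Subgroup G) := normalClosure_eq_self ⊥
  rcases eq_or_ne S₁ ⊥ with rfl | h1
  · rw [hnb, commutator_bot_left]
  rcases eq_or_ne S₂ ⊥ with rfl | h2
  · rw [hnb, commutator_bot_right]
  obtain ⟨u₁, v₁, hu₁, hv₁, hne₁, hu₁S, hv₁S⟩ := hc.exists_two hO hZ h1
  obtain ⟨u₂, v₂, hu₂, hv₂, hne₂, hu₂S, hv₂S⟩ := hc.symm.exists_two hO hZ h2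
  have hctx : Ctx S S₁ S₂ := ⟨hc, hZ, ih⟩
  have hP : ∀ x ∈ InvGen S₁, ∀ y ∈ InvGen S₂, x * y = y * x := by
    intro x hx y hy
    have h3 : InvGen S₁ ≤ centralizer (InvGen S₂ : Set G) := invGen_le fun a ha hta => by
      refine mem_centralizer_iff.2 fun w hw => ?_
      have h4 : InvGen S₂ ≤ centralizer ({a} : Set G) := invGen_le fun b hb htb =>
        mem_centralizer_singleton_iff.2 (hctx.commute_involutions hO hu₁ hv₁ hne₁ hu₁S hv₁S hu₂ hv₂ hne₂
          hu₂S hv₂S ha hta hb htb).symm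
      exact mem_centralizer_singleton_iff.1 (h4 hw)
    exact (mem_centralizer_iff.1 (h3 hx) y hy).symm
  set N₁ := normalClosure (S₁ : Set G) with hN₁
  set N₂ := normalClosure (S₂ : Set G) with hN₂
  haveI : N₁.Normal := normalClosure_normal
  haveI : N₂.Normal := normalClosure_normal
  -- inside `P₁ S`
  have hN₂P : ∀ x ∈ InvGen S₁, ∀ y ∈ N₂, x * y = y * x := by
    set K := InvGen S₁ ⊔ (S : Subgroup G) with hK
    obtain ⟨M₁, M₂, hcm, hM1, hM2⟩ := hc.commute_in ih (le_sup_right : (S : Subgroup G) ≤ K)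
      (sup_sylow_ne_top hO hZ S (InvGen S₁) (InvGen S₂) hP (invGen_ne_bot hu₂ hu₂S))
      (oddCore_sup_sylow hO S (InvGen S₁))
    have h3 : InvGen S₁ ≤ M₁ := invGen_le fun a ha hta => by
      have haK : a ∈ K := mem_sup_left (subset_normalClosure ⟨ha, hta⟩)
      obtain ⟨c, hc'⟩ := Invol.exists_conj_mem_sylow (S.subtype (le_sup_right : (S : Subgroup G) ≤ K))
        ((IsPGroup.of_card (n := 1) (by rw [Nat.card_zpowers, ha, pow_one]) : IsPGroup 2 (zpowers a)).of_equiv
          (subgroupOfEquivOfLe (zpowers_le.2 haK)).symm)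
      have h5 := hc' ⟨a, haK⟩ (mem_subgroupOf.2 (mem_zpowers a))
      have h6 : (c : G) * a * (c : G)⁻¹ ∈ (S : Subgroup G) := by
        simpa [Sylow.coe_subtype, mem_subgroupOf] using h5
      have h7 := hM1 _ (inv_mem c.2) _ (hc.mem_left h6 (hta.conj (c : G)))
      rwa [show (c : G)⁻¹ * ((c : G) * a * (c : G)⁻¹) * (c : G)⁻¹⁻¹ = a by group] at h7
    have h4 : N₂ ≤ centralizer (InvGen S₁ : Set G) := normalClosure_le_normal fun s hs =>
      mem_centralizer_iff.2 fun x hx =>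
        hcm x (h3 hx) s (by simpa using hM2 1 (one_mem K) s hs)
    exact fun x hx y hy => mem_centralizer_iff.1 (h4 hy) x hx
  -- inside `N₂ S`
  obtain ⟨M₁, M₂, hcm, hM1, hM2⟩ := hc.commute_in ih (le_sup_right : (S : Subgroup G) ≤ N₂ ⊔ S)
    (sup_sylow_ne_top hO hZ S N₂ (InvGen S₁) (fun x hx y hy => (hN₂P y hy x hx).symm)
      (invGen_ne_bot hu₁ hu₁S))
    (oddCore_sup_sylow hO S N₂)
  have h5 : N₂ ≤ M₂ := hc.symm.normalClosure_le_of_inner fun n hn x hx => hM2 n (mem_sup_left hn) x hx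
  rw [commutator_eq_bot_iff_le_centralizer]
  exact normalClosure_le_normal fun s hs => mem_centralizer_iff.2 fun y hy =>
    (hcm s (by simpa using hM1 1 (one_mem _) s hs) y (h5 hy)).symm

theorem productHolds_aux : ∀ (n : ℕ) (G : Type u) [Group G] [Finite G], Nat.card G < n → ProductHolds G := by
  intro n
  induction n with
  | zero => intro G _ _ h; exact absurd h (Nat.not_lt_zero _)
  | succ n ih =>
    intro G _ _ hlt S S₁ S₂ h1 h2 hcm hd
    have hc : Cl S S₁ S₂ := ⟨h1, h2, hcm, hd⟩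
    have ih' : Below.{u} (Nat.card G) := fun H _ _ hH => ih H (by omega)
    rcases eq_or_ne (Cfsg.oddCore G) ⊥ with hO | hO
    · rw [hc.of_oddCore_bot ih' hO]
      exact bot_le
    set π := QuotientGroup.mk' (Cfsg.oddCore G)
    have hπ : Function.Surjective π := QuotientGroup.mk'_surjective _
    obtain ⟨T, hT⟩ := hc.map π hπ (fun x hx g h => hc.fusion π hx h)
      (fun x hx g h => hc.symm.fusion π hx h) (by
        intro x hx y hy hxy
        rw [QuotientGroup.mk'_apply, QuotientGroup.mk'_apply, QuotientGroup.eq] at hxy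
        have hS : x⁻¹ * y ∈ (S : Subgroup G) := mul_mem (inv_mem (h1.1 hx)) (h2.1 hy)
        obtain ⟨k, hk⟩ := S.2 ⟨_, hS⟩
        have hk' : (x⁻¹ * y) ^ 2 ^ k = 1 := congrArg Subtype.val hk
        have hdvd : orderOf (x⁻¹ * y) ∣ 2 ^ k := orderOf_dvd_of_pow_eq_one hk'
        have hone : orderOf (x⁻¹ * y) = 1 := Nat.eq_one_of_dvd_coprimes
          ((Nat.coprime_two_left.2 (ZStar.odd_orderOf_oddCore hxy)).pow_left k) hdvd dvd_rfl
        have hxy' : x = y := inv_mul_eq_one.1 (orderOf_eq_one_iff.1 hone)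
        have hmem : x ∈ S₁ ⊓ S₂ := ⟨hx, hxy' ▸ hy⟩
        rw [hd, mem_bot] at hmem
        rw [hmem, map_one])
    have hlt' : Nat.card (G ⧸ Cfsg.oddCore G) < Nat.card G := Core.card_quotient_lt hO
    have hbar := (ih (G ⧸ Cfsg.oddCore G) (by omega) T _ _ hT.h1 hT.h2 hT.comm hT.disj).trans
      (Core.pPrimeCore_quotient_eq_bot (G := G) (p := 2)).le
    have key : ⁅normalClosure (S₁ : Set G), normalClosure (S₂ : Set G)⁆.map π ≤ ⊥ := by
      rw [Subgroup.map_commutator, Subgroup.map_normalClosure _ _ hπ, Subgroup.map_normalClosure _ _ hπ,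
        ← coe_map, ← coe_map]
      exact hbar
    rw [le_bot_iff, Subgroup.map_eq_bot_iff, QuotientGroup.ker_mk'] at key
    exact key

/-- Goldschmidt's product theorem. -/
theorem productHolds (G : Type u) [Group G] [Finite G] : ProductHolds G :=
  productHolds_aux (Nat.card G + 1) G (Nat.lt_succ_self _)

end Cfsg.Lib.Goldschmidt.Product
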