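import Cfsg.Prelude.Def_TwoFusion
import Cfsg.Prelude.Def_CaseTheorems

/-!
# Goldschmidt's product theorem: the statement

Two commuting, disjoint subgroups of a Sylow 2-subgroup, each strongly closed in it, have normal
closures commuting modulo the odd core. The proof is `Product.productHolds` in
`Lib/Goldschmidt/Product.lean`; consumers may take `ProductHolds` as a hypothesis.
-/

set_option autoImplicit false

namespace Cfsg.Lib.Goldschmidt.Product

universe u

/-- Goldschmidt's product theorem for the group `G`. -/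
def ProductHolds (G : Type u) [Group G] : Prop :=
  ∀ (S : Sylow 2 G) (S₁ S₂ : Subgroup G), Cfsg.IsStronglyClosed S₁ (S : Subgroup G) →
    Cfsg.IsStronglyClosed S₂ (S : Subgroup G) → (∀ a ∈ S₁, ∀ b ∈ S₂, a * b = b * a) → S₁ ⊓ S₂ = ⊥ →
    ⁅Subgroup.normalClosure (S₁ : Set G), Subgroup.normalClosure (S₂ : Set G)⁆ ≤ Cfsg.oddCore G

end Cfsg.Lib.Goldschmidt.Product
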