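import Cfsg.Agent.Lib.Goldschmidt.ProductDef
import Cfsg.Agent.Lib.Invol.Basic
import Cfsg.Agent.Lib.Invol.SylowTools
import Cfsg.Agent.Lib.Core.Cores
import Cfsg.Agent.Lib.Solv.Nilpotent

/-!
# Commuting disjoint strongly closed pairs: inheritance and involutions of the two types

Preparations for Goldschmidt's product theorem.
-/

set_option autoImplicit false
set_option linter.unusedSectionVars false
set_option linter.style.haveILetI false

namespace Cfsg.Lib.Goldschmidt.Product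

open Subgroup

universe u

/-- Two commuting disjoint subgroups of `S`, strongly closed in `S`. -/
structure Cl {G : Type u} [Group G] (S : Sylow 2 G) (S₁ S₂ : Subgroup G) : Prop where
  h1 : Cfsg.IsStronglyClosed S₁ (S : Subgroup G)
  h2 : Cfsg.IsStronglyClosed S₂ (S : Subgroup G)
  comm : ∀ a ∈ S₁, ∀ b ∈ S₂, a * b = b * a
  disj : S₁ ⊓ S₂ = ⊥

/-- `x` is conjugate to an element of `S₁`. -/
def Typ {G : Type u} [Group G] (S₁ : Subgroup G) (x : G) : Prop := ∃ g : G, g * x * g⁻¹ ∈ S₁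

variable {G : Type u} [Group G]

theorem Typ.of_mem {S₁ : Subgroup G} {x : G} (hx : x ∈ S₁) : Typ S₁ x := ⟨1, by simpa using hx⟩

theorem Typ.conj {S₁ : Subgroup G} {x : G} (h : Typ S₁ x) (u : G) : Typ S₁ (u * x * u⁻¹) := by
  obtain ⟨g, hg⟩ := h
  refine ⟨g * u⁻¹, ?_⟩
  rwa [show g * u⁻¹ * (u * x * u⁻¹) * (g * u⁻¹)⁻¹ = g * x * g⁻¹ by group]

theorem Typ.conj_iff {S₁ : Subgroup G} {x : G} (u : G) : Typ S₁ (u * x * u⁻¹) ↔ Typ S₁ x := by
  refine ⟨fun h => ?_, fun h => h.conj u⟩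
  have := h.conj u⁻¹
  rwa [show u⁻¹ * (u * x * u⁻¹) * u⁻¹⁻¹ = x by group] at this

variable {S : Sylow 2 G} {S₁ S₂ : Subgroup G}

theorem Cl.symm (hc : Cl S S₁ S₂) : Cl S S₂ S₁ :=
  ⟨hc.h2, hc.h1, fun a ha b hb => (hc.comm b hb a ha).symm, by rw [inf_comm]; exact hc.disj⟩

/-- Inside `S`, an element of type one lies in `S₁`. -/
theorem Cl.mem_left (hc : Cl S S₁ S₂) {x : G} (hx : x ∈ (S : Subgroup G)) (h : Typ S₁ x) :
    x ∈ S₁ := by
  obtain ⟨g, hg⟩ := h
  have e : g⁻¹ * (g * x * g⁻¹) * g⁻¹⁻¹ = x := by group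
  have := hc.h1.2 (g * x * g⁻¹) hg g⁻¹ (by rwa [e])
  rwa [e] at this

/-- `S` normalizes `S₁`. -/
theorem Cl.conj_mem_left (hc : Cl S S₁ S₂) {x s : G} (hx : x ∈ S₁) (hs : s ∈ (S : Subgroup G)) :
    s * x * s⁻¹ ∈ S₁ :=
  hc.h1.2 x hx s (mul_mem (mul_mem hs (hc.h1.1 hx)) (inv_mem hs))

/-- No nontrivial element has both types. -/
theorem Cl.eq_one_of_typ (hc : Cl S S₁ S₂) {x : G} (h1 : Typ S₁ x) (h2 : Typ S₂ x) : x = 1 := by
  obtain ⟨g, hg⟩ := h1
  have h3 : g * x * g⁻¹ ∈ S₂ := hc.symm.mem_left (hc.h1.1 hg) (h2.conj g)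
  have : g * x * g⁻¹ ∈ S₁ ⊓ S₂ := ⟨hg, h3⟩
  rw [hc.disj, mem_bot, conj_eq_one_iff] at this
  exact this

section Finite

variable [Finite G]

/-- In a `2`-subgroup the elements of type one form a subgroup commuting with those of type two. -/
theorem Cl.exists_frame (hc : Cl S S₁ S₂) {P : Subgroup G} (hP : IsPGroup 2 P) :
    ∃ g : G, (∀ x ∈ P, g * x * g⁻¹ ∈ (S : Subgroup G)) ∧
      (∀ x ∈ P, Typ S₁ x → g * x * g⁻¹ ∈ S₁) ∧ (∀ x ∈ P, Typ S₂ x → g * x * g⁻¹ ∈ S₂) := by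
  haveI : Fact (Nat.Prime 2) := ⟨Nat.prime_two⟩
  obtain ⟨g, hg⟩ := Invol.exists_conj_mem_sylow S hP
  exact ⟨g, hg, fun x hx h => hc.mem_left (hg x hx) (h.conj g),
    fun x hx h => hc.symm.mem_left (hg x hx) (h.conj g)⟩

theorem Cl.typ_comm (hc : Cl S S₁ S₂) {P : Subgroup G} (hP : IsPGroup 2 P) {x y : G} (hx : x ∈ P)
    (hy : y ∈ P) (h1 : Typ S₁ x) (h2 : Typ S₂ y) : x * y = y * x := by
  obtain ⟨g, -, hg1, hg2⟩ := hc.exists_frame hP
  have h := hc.comm _ (hg1 x hx h1) _ (hg2 y hy h2)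
  rw [show g * x * g⁻¹ * (g * y * g⁻¹) = g * (x * y) * g⁻¹ by group,
    show g * y * g⁻¹ * (g * x * g⁻¹) = g * (y * x) * g⁻¹ by group] at h
  exact mul_left_cancel (mul_right_cancel h)

/-- The hypotheses pass to subgroups. -/
theorem Cl.subgroup (hc : Cl S S₁ S₂) (H : Subgroup G) {A : Subgroup G} (hA : IsPGroup 2 A)
    (hAH : A ≤ H) : ∃ (T : Sylow 2 H) (T₁ T₂ : Subgroup H), Cl T T₁ T₂ ∧
      (∀ x : H, (x : G) ∈ A → Typ S₁ (x : G) → x ∈ T₁) ∧
      (∀ x : H, (x : G) ∈ A → Typ S₂ (x : G) → x ∈ T₂) := by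
  obtain ⟨T, hT⟩ := (hA.of_equiv (subgroupOfEquivOfLe hAH).symm).exists_le_sylow
  obtain ⟨g, hg, hg1, hg2⟩ := hc.exists_frame (T.2.map H.subtype)
  set φ : H →* G := (MulAut.conj g).toMonoidHom.comp H.subtype with hφ
  have hφx : ∀ x : H, φ x = g * x * g⁻¹ := fun x => rfl
  have key : ∀ (R : Subgroup G), (∀ x ∈ (T : Subgroup H).map H.subtype, Typ R x → g * x * g⁻¹ ∈ R) →
      Cfsg.IsStronglyClosed ((T : Subgroup H) ⊓ R.comap φ) (T : Subgroup H) := by
    intro R hR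
    refine ⟨inf_le_left, fun x hx k hk => ⟨hk, ?_⟩⟩
    have h1 : Typ R (x : G) := ⟨g, hx.2⟩
    exact hR _ (mem_map_of_mem _ hk) (by simpa using h1.conj (k : G))
  refine ⟨T, (T : Subgroup H) ⊓ S₁.comap φ, (T : Subgroup H) ⊓ S₂.comap φ,
    ⟨key S₁ hg1, key S₂ hg2, fun a ha b hb => ?_, ?_⟩, fun x hx h => ?_, fun x hx h => ?_⟩
  · refine ((injective_iff_map_eq_one φ).2 fun y hy => ?_) ?_
    · rw [hφx, conj_eq_one_iff] at hy
      exact Subtype.ext hy
    · rw [map_mul, map_mul]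
      exact hc.comm _ ha.2 _ hb.2
  · rw [eq_bot_iff]
    intro x hx
    have : φ x ∈ S₁ ⊓ S₂ := ⟨hx.1.2, hx.2.2⟩
    rw [hc.disj, mem_bot, hφx, conj_eq_one_iff] at this
    exact Subtype.ext this
  · exact ⟨hT (mem_subgroupOf.2 hx), hg1 _ (mem_map_of_mem _ (hT (mem_subgroupOf.2 hx))) h⟩
  · exact ⟨hT (mem_subgroupOf.2 hx), hg2 _ (mem_map_of_mem _ (hT (mem_subgroupOf.2 hx))) h⟩

/-- The hypotheses pass to a quotient in which fusion into `S` is controlled. -/
theorem Cl.map (hc : Cl S S₁ S₂) {Q : Type u} [Group Q] [Finite Q] (π : G →* Q)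
    (hπ : Function.Surjective π)
    (hk1 : ∀ x ∈ S₁, ∀ g : G, π (g * x * g⁻¹) ∈ (S : Subgroup G).map π → π (g * x * g⁻¹) ∈ S₁.map π)
    (hk2 : ∀ x ∈ S₂, ∀ g : G, π (g * x * g⁻¹) ∈ (S : Subgroup G).map π → π (g * x * g⁻¹) ∈ S₂.map π)
    (hd : ∀ x ∈ S₁, ∀ y ∈ S₂, π x = π y → π x = 1) :
    ∃ T : Sylow 2 Q, Cl T (S₁.map π) (S₂.map π) := by
  haveI : Fact (Nat.Prime 2) := ⟨Nat.prime_two⟩
  refine ⟨S.mapSurjective hπ, ?_, ?_, ?_, ?_⟩
  · refine ⟨by rw [Sylow.coe_mapSurjective]; exact map_mono hc.h1.1, ?_⟩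
    rintro _ ⟨x, hx, rfl⟩ k hk
    obtain ⟨g, rfl⟩ := hπ k
    rw [Sylow.coe_mapSurjective, ← map_inv, ← map_mul, ← map_mul] at hk
    rw [← map_inv, ← map_mul, ← map_mul]
    exact hk1 x hx g hk
  · refine ⟨by rw [Sylow.coe_mapSurjective]; exact map_mono hc.h2.1, ?_⟩
    rintro _ ⟨x, hx, rfl⟩ k hk
    obtain ⟨g, rfl⟩ := hπ k
    rw [Sylow.coe_mapSurjective, ← map_inv, ← map_mul, ← map_mul] at hk
    rw [← map_inv, ← map_mul, ← map_mul]
    exact hk2 x hx g hk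
  · rintro _ ⟨a, ha, rfl⟩ _ ⟨b, hb, rfl⟩
    rw [← map_mul, ← map_mul, hc.comm a ha b hb]
  · rw [eq_bot_iff]
    rintro _ ⟨⟨x, hx, rfl⟩, y, hy, e⟩
    exact hd x hx y hy e.symm

/-- Fusion into `S` modulo a normal subgroup. -/
theorem Cl.fusion (hc : Cl S S₁ S₂) {Q : Type u} [Group Q] (π : G →* Q) {x g : G} (hx : x ∈ S₁)
    (h : π (g * x * g⁻¹) ∈ (S : Subgroup G).map π) : π (g * x * g⁻¹) ∈ S₁.map π := by
  haveI : Fact (Nat.Prime 2) := ⟨Nat.prime_two⟩
  set y := g * x * g⁻¹ with hy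
  obtain ⟨s, hs, hsy⟩ := h
  set K := π.ker ⊔ (S : Subgroup G) with hK
  have hyK : y ∈ K := by
    have h1 : y * s⁻¹ ∈ π.ker := by rw [MonoidHom.mem_ker, map_mul, map_inv, hsy, mul_inv_cancel]
    simpa using mul_mem (mem_sup_left h1 : y * s⁻¹ ∈ K) (mem_sup_right hs)
  have hy2 : IsPGroup 2 (zpowers y) := by
    obtain ⟨k, hk⟩ := S.2 ⟨x, hc.h1.1 hx⟩
    have hk' : x ^ 2 ^ k = 1 := congrArg Subtype.val hk
    have : orderOf y ∣ 2 ^ k := by
      rw [hy, Invol.orderOf_conj_eq]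
      exact orderOf_dvd_of_pow_eq_one hk'
    obtain ⟨i, -, hi⟩ := (Nat.dvd_prime_pow Nat.prime_two).1 this
    exact IsPGroup.of_card (n := i) (by rw [Nat.card_zpowers, hi])
  obtain ⟨c, hc'⟩ := Invol.exists_conj_mem_sylow (S.subtype (le_sup_right : (S : Subgroup G) ≤ K))
    (hy2.of_equiv (subgroupOfEquivOfLe (zpowers_le.2 hyK)).symm)
  have h3 : (c : G) * y * (c : G)⁻¹ ∈ (S : Subgroup G) := by
    have h := hc' ⟨y, hyK⟩ (mem_subgroupOf.2 (mem_zpowers y))
    simpa [Sylow.coe_subtype, mem_subgroupOf] using h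
  have h4 : (c : G) * y * (c : G)⁻¹ ∈ S₁ := hc.mem_left h3 (((Typ.of_mem hx).conj g).conj (c : G))
  have hcS : π c ∈ (S : Subgroup G).map π := by
    have := mem_map_of_mem π c.2
    rwa [Subgroup.map_sup, (Subgroup.map_eq_bot_iff _).2 le_rfl, bot_sup_eq] at this
  obtain ⟨t, ht, htc⟩ := hcS
  refine ⟨t⁻¹ * (c * y * (c : G)⁻¹) * t⁻¹⁻¹, hc.conj_mem_left h4 (inv_mem ht), ?_⟩
  simp only [map_mul, map_inv, htc]
  group

/-- Frattini: the normal closure of `S₁` is generated by its conjugates under itself. -/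
theorem Cl.normalClosure_le_of_inner (hc : Cl S S₁ S₂) {X : Subgroup G}
    (hX : ∀ n ∈ normalClosure (S₁ : Set G), ∀ x ∈ S₁, n * x * n⁻¹ ∈ X) :
    normalClosure (S₁ : Set G) ≤ X := by
  haveI : Fact (Nat.Prime 2) := ⟨Nat.prime_two⟩
  set N := normalClosure (S₁ : Set G) with hN
  haveI : N.Normal := normalClosure_normal
  obtain ⟨T, hT'⟩ : ∃ T : Sylow 2 N, (T : Subgroup N) = (S : Subgroup G).subgroupOf N :=
    ⟨S.isPGroup'.comap_subtype.toSylow (Solv.not_dvd_relIndex_of_isSubnormal S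
      ((normalClosure_normal : N.Normal).isSubnormal)), IsPGroup.toSylow_coe _ _⟩
  have hT : (T : Subgroup N).map N.subtype = N ⊓ (S : Subgroup G) := by
    rw [hT', subgroupOf_map_subtype, inf_comm]
  have key : ∀ g : G, ∀ x ∈ S₁, g * x * g⁻¹ ∈ X := by
    intro g x hx
    have htop := Sylow.normalizer_sup_eq_top T
    have hg : g ∈ N ⊔ normalizer (((T : Subgroup N).map N.subtype : Subgroup G) : Set G) := by
      rw [sup_comm, htop]; trivial
    obtain ⟨n, hn, v, hv, rfl⟩ := mem_sup_of_normal_left.1 hg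
    have hxT : x ∈ (T : Subgroup N).map N.subtype := by
      rw [hT]
      exact ⟨subset_normalClosure hx, hc.h1.1 hx⟩
    have h1 : v * x * v⁻¹ ∈ (T : Subgroup N).map N.subtype := (Subgroup.mem_normalizer_iff.1 hv x).1 hxT
    rw [hT] at h1
    have h2 : v * x * v⁻¹ ∈ S₁ := hc.h1.2 x hx v h1.2
    have := hX n hn _ h2
    rwa [show n * v * x * (n * v)⁻¹ = n * (v * x * v⁻¹) * n⁻¹ by group]
  refine (closure_le X).2 ?_
  intro y hy
  obtain ⟨x, hx, hxy⟩ := Group.mem_conjugatesOfSet_iff.1 hy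
  obtain ⟨g, rfl⟩ := isConj_iff.1 hxy
  exact key g x hx

end Finite

/-- A four group: elementary abelian of order four. -/
def Four (A : Subgroup G) : Prop := Cfsg.IsElementaryAbelian 2 A ∧ Nat.card A = 4

/-- Two commuting involutions generate a four group. -/
theorem exists_four_pair {R : Subgroup G} {u v : G} (hu : orderOf u = 2) (hv : orderOf v = 2)
    (hne : u ≠ v) (hcm : u * v = v * u) (huR : u ∈ R) (hvR : v ∈ R) :
    ∃ V : Subgroup G, Four V ∧ V ≤ R ∧ u ∈ V ∧ v ∈ V := by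
  have huu := Invol.inv_mul_self hu
  have hvv := Invol.inv_mul_self hv
  let V : Subgroup G :=
    { carrier := {1, u, v, u * v}
      mul_mem' := by
        intro a b ha hb
        simp only [Set.mem_insert_iff, Set.mem_singleton_iff] at ha hb ⊢
        have e1 : v * u = u * v := hcm.symm
        have e2 : ∀ w, u * (u * w) = w := fun w => by rw [← mul_assoc, huu, one_mul]
        have e3 : ∀ w, v * (v * w) = w := fun w => by rw [← mul_assoc, hvv, one_mul]
        have e4 : v * (u * v) = u := by rw [← mul_assoc, e1, mul_assoc, hvv, mul_one]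
        rcases ha with rfl | rfl | rfl | rfl <;> rcases hb with rfl | rfl | rfl | rfl <;>
          simp [huu, hvv, e1, e2, e4, mul_assoc]
      one_mem' := by simp
      inv_mem' := by
        intro a ha
        simp only [Set.mem_insert_iff, Set.mem_singleton_iff] at ha ⊢
        rcases ha with rfl | rfl | rfl | rfl
        · simp
        · exact Or.inr (Or.inl (Invol.inv_eq_self hu))
        · exact Or.inr (Or.inr (Or.inl (Invol.inv_eq_self hv)))
        · exact Or.inr (Or.inr (Or.inr (by rw [mul_inv_rev, Invol.inv_eq_self hu, Invol.inv_eq_self hv, hcm]))) }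
  have hmem : ∀ x, x ∈ V ↔ x = 1 ∨ x = u ∨ x = v ∨ x = u * v := fun x => by
    show x ∈ ({1, u, v, u * v} : Set G) ↔ _
    simp
  have hu1 := Invol.ne_one hu
  have hv1 := Invol.ne_one hv
  have huv1 : u * v ≠ 1 := fun e => hne (by rw [eq_inv_of_mul_eq_one_left e, Invol.inv_eq_self hv])
  refine ⟨V, ⟨⟨⟨⟨fun a b => Subtype.ext ?_⟩⟩, fun a ha => ?_⟩, ?_⟩, fun x hx => ?_, (hmem u).2 (by simp), (hmem v).2 (by simp)⟩
  · obtain ⟨a, ha⟩ := a
    obtain ⟨b, hb⟩ := b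
    show a * b = b * a
    have h1 : Commute u v := hcm
    rcases (hmem a).1 ha with rfl | rfl | rfl | rfl <;> rcases (hmem b).1 hb with rfl | rfl | rfl | rfl
    all_goals first
      | exact (Commute.refl _).eq
      | exact (Commute.one_left _).eq
      | exact (Commute.one_right _).eq
      | exact h1.eq
      | exact h1.symm.eq
      | exact ((Commute.refl _).mul_right h1).eq
      | exact ((Commute.refl _).mul_right h1).symm.eq
      | exact ((Commute.refl _).mul_left h1).eq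
      | exact ((Commute.refl _).mul_left h1).symm.eq
      | exact (h1.symm.mul_right (Commute.refl _)).eq
      | exact (h1.symm.mul_right (Commute.refl _)).symm.eq
  · rcases (hmem a).1 ha with rfl | rfl | rfl | rfl
    · simp
    · rw [pow_two, huu]
    · rw [pow_two, hvv]
    · rw [(show Commute u v from hcm).mul_pow, pow_two, pow_two, huu, hvv, one_mul]
  · have h1 : ((V : Set G)) = {1, u, v, u * v} := rfl
    rw [← SetLike.coe_sort_coe, Nat.card_coe_set_eq, h1,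
      Set.ncard_insert_of_notMem, Set.ncard_insert_of_notMem, Set.ncard_pair]
    · intro e; exact hu1 (mul_eq_right.1 e.symm)
    · simp only [Set.mem_insert_iff, Set.mem_singleton_iff, not_or]
      exact ⟨hne, fun e => hv1 (mul_eq_left.1 e.symm)⟩
    · simp only [Set.mem_insert_iff, Set.mem_singleton_iff, not_or]
      exact ⟨hu1.symm, hv1.symm, huv1.symm⟩
  · rcases (hmem x).1 hx with rfl | rfl | rfl | rfl
    exacts [one_mem R, huR, hvR, mul_mem huR hvR]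

/-- In a `2`-group with two involutions every involution lies in a four group. -/
theorem exists_four_of_mem [Finite G] {R : Subgroup G} (hR : IsPGroup 2 R) {b u v : G} (hb : orderOf b = 2)
    (hbR : b ∈ R) (hu : orderOf u = 2) (huR : u ∈ R) (hv : orderOf v = 2) (hvR : v ∈ R) (hne : u ≠ v) :
    ∃ V : Subgroup G, Four V ∧ V ≤ R ∧ b ∈ V := by
  haveI : Fact (Nat.Prime 2) := ⟨Nat.prime_two⟩
  haveI : Nontrivial R := ⟨⟨1, ⟨b, hbR⟩, fun e => Invol.ne_one hb (congrArg Subtype.val e).symm⟩⟩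
  haveI := hR.center_nontrivial
  have hZ : IsPGroup 2 (center R) := hR.to_subgroup _
  obtain ⟨z, hz⟩ : ∃ z : center R, orderOf z = 2 := by
    refine exists_prime_orderOf_dvd_card' 2 ?_
    obtain ⟨k, hk⟩ := IsPGroup.iff_card.1 hZ
    rw [hk]
    rcases k with _ | k
    · rw [pow_zero, Nat.card_eq_one_iff_unique] at hk
      exact absurd hk.1 (not_subsingleton _)
    · exact dvd_pow_self 2 (Nat.succ_ne_zero k)
  set w : G := ((z : R) : G) with hw
  have hw2 : orderOf w = 2 := by rw [hw, Subgroup.orderOf_coe, Subgroup.orderOf_coe, hz]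
  have hwc : ∀ x ∈ R, w * x = x * w := fun x hx =>
    (congrArg Subtype.val (mem_center_iff.1 z.2 ⟨x, hx⟩)).symm
  have hwR : w ∈ R := (z : R).2
  by_cases hbw : b = w
  · obtain ⟨v', hv', hv'R, hne'⟩ : ∃ v' : G, orderOf v' = 2 ∧ v' ∈ R ∧ w ≠ v' := by
      by_cases h : w = u
      · exact ⟨v, hv, hvR, fun e => hne (h.symm.trans e)⟩
      · exact ⟨u, hu, huR, h⟩
    obtain ⟨V, hV, hVR, h1, -⟩ := exists_four_pair hw2 hv' hne' (hwc v' hv'R) hwR hv'R
    exact ⟨V, hV, hVR, hbw ▸ h1⟩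
  · obtain ⟨V, hV, hVR, h1, -⟩ := exists_four_pair hb hw2 hbw (hwc b hbR).symm hbR hwR
    exact ⟨V, hV, hVR, h1⟩

/-- A four group is generated by any two of its involutions. -/
theorem Four.le_closure [Finite G] {A : Subgroup G} (hA : Four A) {a b : G} (ha : a ∈ A) (hb : b ∈ A)
    (ha1 : a ≠ 1) (hb1 : b ≠ 1) (hab : a ≠ b) : A ≤ closure {a, b} := by
  have hle : closure ({a, b} : Set G) ≤ A := (closure_le A).2 (by
    rintro x (rfl | rfl)
    exacts [ha, hb])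
  refine (Subgroup.eq_of_le_of_card_ge hle ?_).ge
  have h3 : ({1, a, b} : Set G) ⊆ (closure ({a, b} : Set G) : Set G) := by
    rintro x (rfl | rfl | rfl)
    exacts [one_mem _, Subgroup.subset_closure (Set.mem_insert _ _),
      Subgroup.subset_closure (Set.mem_insert_of_mem _ rfl)]
  have h4 := Set.ncard_le_ncard h3 (Set.toFinite _)
  rw [Set.ncard_insert_of_notMem (by simp [Ne.symm ha1, Ne.symm hb1]), Set.ncard_pair hab,
    ← Nat.card_coe_set_eq, SetLike.coe_sort_coe] at h4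
  have h5 := card_dvd_of_le hle
  rw [hA.2] at h5 ⊢
  have h6 := Nat.le_of_dvd (by norm_num) h5
  interval_cases Nat.card (closure ({a, b} : Set G)) <;> omega

set_option maxHeartbeats 600000 in
/-- Two involutions of different types: conjugating one of them by an element of odd order inverted by
both makes them commute. -/
theorem Cl.exists_commuting [Finite G] (hc : Cl S S₁ S₂) {a b : G} (ha : orderOf a = 2) (hb : orderOf b = 2)
    (h1 : Typ S₁ a) (h2 : Typ S₂ b) :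
    ∃ h b' : G, h ∈ closure ({a, b} : Set G) ∧ b' ∈ closure ({a, b} : Set G) ∧ orderOf b' = 2 ∧
      Typ S₂ b' ∧ a * b' = b' * a ∧ Odd (orderOf h) ∧ b = h * b' * h⁻¹ ∧
      a * h * a⁻¹ = h⁻¹ ∧ b' * h * b'⁻¹ = h⁻¹ := by
  haveI : Fact (Nat.Prime 2) := ⟨Nat.prime_two⟩
  obtain ⟨r, hr⟩ : ∃ r, r = a * b := ⟨_, rfl⟩
  have haa := Invol.inv_mul_self ha
  have hia : a * r * a⁻¹ = r⁻¹ := by rw [hr]; exact Invol.conj_mul_left ha hb
  obtain ⟨k, m, hm, hn⟩ := Nat.exists_eq_two_pow_mul_odd (orderOf_pos r).ne'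
  obtain ⟨j, rfl⟩ := hm
  have hrn : r ^ (2 ^ k * (2 * j + 1)) = 1 := by rw [← hn, pow_orderOf_eq_one]
  obtain ⟨s, hs⟩ : ∃ s : G, s = r ^ ((2 * (j : ℤ) + 1)) := ⟨_, rfl⟩
  obtain ⟨b', hb'⟩ : ∃ b', b' = a * s := ⟨_, rfl⟩
  have hsk : s ^ (2 ^ k) = 1 := by
    rw [hs, ← zpow_natCast, ← zpow_mul]
    have : ((2 * (j : ℤ) + 1) * ((2 ^ k : ℕ) : ℤ)) = ((2 ^ k * (2 * j + 1) : ℕ) : ℤ) := by
      push_cast; ring
    rw [this, zpow_natCast, hrn]
  have hbb' : b' = r ^ (-(j : ℤ)) * b * r ^ (j : ℤ) := by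
    have h0 : b = a * r := by rw [hr, ← mul_assoc, haa, one_mul]
    rw [h0, ← mul_assoc, Invol.zpow_mul_of_inverts haa hia, neg_neg, mul_assoc, mul_assoc, hb', hs]
    congr 1
    rw [show (2 * (j : ℤ) + 1) = j + (1 + j) by ring, zpow_add, zpow_add, zpow_one]
  have hb'2 : orderOf b' = 2 := by
    rw [hbb', show r ^ (-(j : ℤ)) * b * r ^ (j : ℤ) = r ^ (-(j : ℤ)) * b * (r ^ (-(j : ℤ)))⁻¹ by
      rw [zpow_neg, inv_inv], Invol.orderOf_conj_eq, hb]
  have hTb' : Typ S₂ b' := by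
    rw [hbb', show r ^ (j : ℤ) = (r ^ (-(j : ℤ)))⁻¹ by rw [zpow_neg, inv_inv]]
    exact h2.conj _
  have has : a * b' = s := by rw [hb', ← mul_assoc, haa, one_mul]
  have hP : IsPGroup 2 (closure ({a, b'} : Set G)) := by
    intro x
    refine ⟨k + 1, Subtype.ext ?_⟩
    rw [SubmonoidClass.coe_pow, OneMemClass.coe_one]
    obtain ⟨i, hi | hi⟩ := (Invol.mem_closure_pair ha hb'2).1 x.2 <;> rw [hi, has]
    · rw [← zpow_natCast, ← zpow_mul, mul_comm, zpow_mul, zpow_natCast, pow_succ, pow_mul, hsk, one_pow, one_zpow]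
    · rw [pow_succ', pow_mul, pow_two, Invol.mul_zpow_sq haa ?_ i, one_pow]
      rw [← has]
      exact Invol.conj_mul_left ha hb'2
  have hcm : a * b' = b' * a :=
    hc.typ_comm hP (Subgroup.subset_closure (Set.mem_insert _ _)) (Subgroup.subset_closure (Set.mem_insert_of_mem _ rfl))
      h1 hTb'
  have hs2 : s * s = 1 := by
    rw [← has]
    calc a * b' * (a * b') = a * b' * (b' * a) := by rw [hcm]
      _ = a * (b' * b') * a := by group
      _ = 1 := by rw [Invol.inv_mul_self hb'2, mul_one, haa]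
  -- an even exponent with the same effect
  obtain ⟨e, he2, heb⟩ : ∃ e : ℤ, Even e ∧ b = r ^ e * b' * r ^ (-e) := by
    rcases Int.even_or_odd (j : ℤ) with hj | hj
    · refine ⟨j, hj, ?_⟩
      rw [hbb']
      simp only [zpow_neg]
      group
    · refine ⟨j + (2 * j + 1), hj.add_odd ⟨j, rfl⟩, ?_⟩
      have hc1 : s * b' * s⁻¹ = b' := by
        rw [← has, show a * b' * b' * (a * b')⁻¹ = a * b' * a⁻¹ by group, hcm]
        group
      rw [zpow_neg, show r ^ ((j : ℤ) + (2 * j + 1)) = r ^ (j : ℤ) * s by rw [zpow_add, hs],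
        show r ^ (j : ℤ) * s * b' * (r ^ (j : ℤ) * s)⁻¹ =
          r ^ (j : ℤ) * (s * b' * s⁻¹) * (r ^ (j : ℤ))⁻¹ by group, hc1, hbb', zpow_neg]
      group
  have hca : a ∈ closure ({a, b} : Set G) := Subgroup.subset_closure (Or.inl rfl)
  have hcb : b ∈ closure ({a, b} : Set G) := Subgroup.subset_closure (Or.inr rfl)
  have hcr : r ∈ closure ({a, b} : Set G) := hr.symm ▸ Subgroup.mul_mem _ hca hcb
  have hh : r ^ e ∈ closure ({a, b} : Set G) := Subgroup.zpow_mem _ hcr e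
  have hainv : a * r ^ e * a⁻¹ = (r ^ e)⁻¹ := by rw [Invol.conj_zpow_of_inverts hia, zpow_neg]
  refine ⟨r ^ e, b', hh, ?_, hb'2, hTb', hcm, ?_, by rwa [← zpow_neg], hainv, ?_⟩
  · exact (Invol.mem_closure_pair ha hb).2 ⟨2 * j + 1, Or.inr (by rw [hb', hs, hr])⟩
  · obtain ⟨i, rfl⟩ := he2
    have h4 : (r ^ (i + i)) ^ (2 * j + 1) = 1 := by
      rw [← zpow_natCast, ← zpow_mul,
        show (i + i) * ((2 * j + 1 : ℕ) : ℤ) = (2 * (j : ℤ) + 1) * (2 * i) by push_cast; ring, zpow_mul,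
        ← hs, zpow_mul, zpow_two, hs2, one_zpow]
    exact Odd.of_dvd_nat ⟨j, by ring⟩ (orderOf_dvd_of_pow_eq_one h4)
  · have hsr : s * r ^ e * s⁻¹ = r ^ e := by
      have : Commute s (r ^ e) := by rw [hs]; exact Commute.zpow_zpow_self r _ _
      rw [this.eq, mul_inv_cancel_right]
    calc b' * r ^ e * b'⁻¹ = a * (s * r ^ e * s⁻¹) * a⁻¹ := by rw [hb']; group
      _ = _ := by rw [hsr, hainv]


end Cfsg.Lib.Goldschmidt.Product
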