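import Cfsg.Agent.Lib.Goldschmidt.ProductPair

/-!
# Involutions of the two types commute

In a group without center (and with trivial odd core) carrying two commuting disjoint strongly
closed subgroups with four groups, involutions of the two types commute.
-/

set_option autoImplicit false
set_option linter.unusedSectionVars false
set_option linter.style.haveILetI false

namespace Cfsg.Lib.Goldschmidt.Product

open Subgroup
open Cfsg.Lib.Sig.CoreSep (O C theta₁ theta)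
open scoped commutatorElement

universe u

variable {G : Type u} [Group G] [Finite G]
variable {S : Sylow 2 G} {S₁ S₂ A B : Subgroup G}

theorem mem_of_sq_mem {X : Subgroup G} {h : G} (hodd : Odd (orderOf h)) (hX : h * h ∈ X) : h ∈ X := by
  obtain ⟨k, hk⟩ := hodd
  have h1 : (h * h) ^ (k + 1) = h := by
    rw [← pow_two, ← pow_mul, show 2 * (k + 1) = orderOf h + 1 by omega, pow_succ,
      pow_orderOf_eq_one, one_mul]
  rw [← h1]
  exact pow_mem hX _

/-- An element of odd order inverted by elements of both groups of a pair lies in its closure. -/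
theorem Ctx.inverted_mem_Wc (hc : Ctx S S₁ S₂) (h : GPair S₁ S₂ A B) {a b x : G} (ha : a ∈ A)
    (ha1 : a ≠ 1) (hb : b ∈ B) (hodd : Odd (orderOf x)) (hax : a * x * a⁻¹ = x⁻¹)
    (hbx : b * x * b⁻¹ = x⁻¹) : x ∈ Wc A B := by
  have ha' : a⁻¹ = a := inv_eq_of_mul_eq_one_left (by rw [← pow_two]; exact h.fA.1.2 a ha)
  have hb' : b⁻¹ = b := inv_eq_of_mul_eq_one_left (by rw [← pow_two]; exact h.fB.1.2 b hb)
  set c := a * b with hc'
  have hcm : c ∈ A ⊔ B := mul_mem (mem_sup_left ha) (mem_sup_right hb)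
  have hc1 : c ≠ 1 := fun e => by
    have hab : a = b := by rw [eq_inv_of_mul_eq_one_left e, hb']
    exact ha1 (hc.eq_one_of_typ (h.tA a ha) (hab ▸ h.tB b hb))
  have hxC : x ∈ C c := by
    refine mem_centralizer_singleton_iff.2 ?_
    have h1 : c * x * c⁻¹ = x := by
      calc c * x * c⁻¹ = a * (b * x * b⁻¹) * a⁻¹ := by rw [hc']; group
        _ = (a * x * a⁻¹)⁻¹ := by rw [hbx]; group
        _ = x := by rw [hax, inv_inv]
    calc x * c = c * x * c⁻¹ * c := by rw [h1]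
      _ = c * x := by group
  obtain ⟨K₁, K₂, hn1, hn2, h12, hA, hB⟩ := hc.local_closures h hcm hc1
  have haC : a ∈ C c := h.le_C hcm (mem_sup_left ha)
  have hbC : b ∈ C c := h.le_C hcm (mem_sup_right hb)
  set x' : C c := ⟨x, hxC⟩
  set a' : C c := ⟨a, haC⟩
  set b' : C c := ⟨b, hbC⟩
  have hsq : x * a * x⁻¹ * a⁻¹ = x * x := by
    calc x * a * x⁻¹ * a⁻¹ = x * (a * x * a⁻¹)⁻¹ := by group
      _ = x * x := by rw [hax, inv_inv]
  have hsqb : x * b * x⁻¹ * b⁻¹ = x * x := by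
    calc x * b * x⁻¹ * b⁻¹ = x * (b * x * b⁻¹)⁻¹ := by group
      _ = x * x := by rw [hbx, inv_inv]
  have hK1 : x' * x' ∈ K₁ := by
    have e : x' * a' * x'⁻¹ * a'⁻¹ = x' * x' := Subtype.ext hsq
    rw [← e]
    exact mul_mem (hn1.conj_mem _ (hA (mem_subgroupOf.2 ha : a' ∈ A.subgroupOf (C c))) _)
      (inv_mem (hA (mem_subgroupOf.2 ha : a' ∈ A.subgroupOf (C c))))
  have hO4 : ⁅x' * x', b'⁆ ∈ Cfsg.pPrimeCore 2 ↥(C c) :=
    h12 (commutator_mem_commutator hK1 (hB (mem_subgroupOf.2 hb : b' ∈ B.subgroupOf (C c))))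
  have hO : x ∈ O c := by
    have h4 : x * x * (x * x) ∈ O c := by
      refine ⟨_, hO4, ?_⟩
      show x * x * b * (x * x)⁻¹ * b⁻¹ = _
      calc x * x * b * (x * x)⁻¹ * b⁻¹ = x * x * ((b * x * b⁻¹) * (b * x * b⁻¹))⁻¹ := by group
        _ = _ := by rw [hbx]; group; simp [pow_succ, mul_assoc]
    refine mem_of_sq_mem hodd (mem_of_sq_mem ?_ h4)
    exact hodd.of_dvd_nat (orderOf_dvd_of_mem_zpowers (mul_mem (mem_zpowers x) (mem_zpowers x)))
  refine theta_le_Wc hcm hc1 ?_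
  refine ⟨mem_sup_left (mem_of_sq_mem hodd ?_), mem_sup_left (mem_of_sq_mem hodd ?_)⟩
  · rw [← hsq, ← commutatorElement_def]
    exact commutator_mem_commutator hO ha
  · rw [← hsqb, ← commutatorElement_def]
    exact commutator_mem_commutator hO hb

/-- Every involution of type one lies in a four group of type one. -/
theorem Cl.exists_four_typ (hc : Cl S S₁ S₂) {u v : G} (hu : orderOf u = 2) (hv : orderOf v = 2)
    (huS : u ∈ S₁) (hvS : v ∈ S₁) (hne : u ≠ v) {a : G} (ha : orderOf a = 2) (ht : Typ S₁ a) :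
    ∃ A : Subgroup G, Four A ∧ a ∈ A ∧ ∀ x ∈ A, Typ S₁ x := by
  obtain ⟨g, hg⟩ := ht
  obtain ⟨V, hV, hVS, hgV⟩ := exists_four_of_mem (S.2.to_le hc.h1.1)
    (by rw [Invol.orderOf_conj_eq, ha] : orderOf (g * a * g⁻¹) = 2) hg hu huS hv hvS hne
  refine ⟨V.map (MulAut.conj g⁻¹).toMonoidHom, ?_, ⟨_, hgV, by simp [mul_assoc]⟩, ?_⟩
  · refine ⟨⟨⟨⟨?_⟩⟩, ?_⟩, by rw [card_map_of_injective (MulAut.conj g⁻¹).injective, hV.2]⟩
    · rintro ⟨_, x, hx, rfl⟩ ⟨_, y, hy, rfl⟩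
      haveI := hV.1.1
      exact Subtype.ext (by simp only [Subgroup.coe_mul, ← map_mul, setLike_mul_comm hx hy])
    · rintro _ ⟨x, hx, rfl⟩
      rw [← map_pow, hV.1.2 x hx, map_one]
  · rintro _ ⟨x, hx, rfl⟩
    exact (Typ.of_mem (hVS hx)).conj g⁻¹

/-- An involution of type two centralizing a four group of type one extends to a pair with it. -/
theorem Cl.exists_pair (hc : Cl S S₁ S₂) {u v : G} (hu : orderOf u = 2) (hv : orderOf v = 2)
    (huS : u ∈ S₂) (hvS : v ∈ S₂) (hne : u ≠ v) (hA : Four A) (htA : ∀ x ∈ A, Typ S₁ x) {y : G}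
    (hy : orderOf y = 2) (hyA : y ∈ centralizer (A : Set G)) (hty : Typ S₂ y) :
    ∃ V : Subgroup G, GPair S₁ S₂ A V ∧ y ∈ V := by
  haveI : Fact (Nat.Prime 2) := ⟨Nat.prime_two⟩
  set H := centralizer (A : Set G) with hH
  obtain ⟨g, -, hg, -⟩ := hc.exists_frame (Sig.isPGroup_of_elementaryAbelian hA.1)
  set Q := S₂.map (MulAut.conj g⁻¹).toMonoidHom with hQ
  have hQH : Q ≤ H := by
    rintro _ ⟨s, hs, rfl⟩
    refine mem_centralizer_iff.2 fun x hx => ?_
    have h1 := hc.comm _ (hg x hx (htA x hx)) s hs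
    simp only [MulEquiv.coe_toMonoidHom, MulAut.conj_apply, inv_inv]
    calc x * (g⁻¹ * s * g) = g⁻¹ * (g * x * g⁻¹ * s) * g := by group
      _ = g⁻¹ * (s * (g * x * g⁻¹)) * g := by rw [h1]
      _ = g⁻¹ * s * g * x := by group
  obtain ⟨c, hcH, R, hR, hyR, hQR⟩ := Invol.exists_common_pGroup H (zpowers_le.2 hyA) hQH
    (IsPGroup.of_card (n := 1) (by rw [Nat.card_zpowers, hy, pow_one]))
    ((S.2.to_le hc.h2.1).map _)
  obtain ⟨g₁, -, -, hg₁⟩ := hc.exists_frame (hR.to_le (inf_le_left : R ⊓ H ≤ R))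
  set R' := R ⊓ H ⊓ S₂.comap (MulAut.conj g₁).toMonoidHom with hR'
  have hmem : ∀ x ∈ R ⊓ H, Typ S₂ x → x ∈ R' := fun x hx ht => ⟨hx, by simpa using hg₁ x hx ht⟩
  have hin : ∀ s ∈ S₂, c * (g⁻¹ * s * g) * c⁻¹ ∈ R' := fun s hs => by
    have hsQ : g⁻¹ * s * g ∈ Q := ⟨s, hs, by simp⟩
    refine hmem _ ⟨hQR _ hsQ, Subgroup.mul_mem _ (Subgroup.mul_mem _ hcH (hQH hsQ)) (Subgroup.inv_mem _ hcH)⟩ ?_
    have h2 := ((Typ.of_mem hs).conj g⁻¹).conj c
    rwa [inv_inv] at h2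
  have hord : ∀ s : G, orderOf (c * (g⁻¹ * s * g) * c⁻¹) = orderOf s := fun s => by
    rw [Invol.orderOf_conj_eq]
    have := Invol.orderOf_conj_eq g⁻¹ s
    rwa [inv_inv] at this
  obtain ⟨V, hV, hVR, hyV⟩ := exists_four_of_mem (hR.to_le (inf_le_left.trans inf_le_left : R' ≤ R)) hy
    (hmem y ⟨hyR (mem_zpowers y), hyA⟩ hty) ((hord u).trans hu) (hin u huS) ((hord v).trans hv) (hin v hvS)
    (fun e => hne (by simpa [mul_assoc] using e))
  refine ⟨V, ⟨hA, hV, htA, fun x hx => ⟨g₁, by simpa using (hVR hx).2⟩, fun x hx z hz => ?_⟩, hyV⟩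
  exact mem_centralizer_iff.1 (hVR hz).1.2 x hx

/-- Involutions of the two types commute. -/
theorem Ctx.commute_involutions (hc : Ctx S S₁ S₂) (hO : Cfsg.oddCore G = ⊥)
    {u₁ v₁ u₂ v₂ : G} (hu₁ : orderOf u₁ = 2) (hv₁ : orderOf v₁ = 2) (hne₁ : u₁ ≠ v₁) (hu₁S : u₁ ∈ S₁)
    (hv₁S : v₁ ∈ S₁) (hu₂ : orderOf u₂ = 2) (hv₂ : orderOf v₂ = 2) (hne₂ : u₂ ≠ v₂) (hu₂S : u₂ ∈ S₂)
    (hv₂S : v₂ ∈ S₂) {a y : G} (ha : orderOf a = 2) (hta : Typ S₁ a) (hy : orderOf y = 2)
    (hty : Typ S₂ y) : a * y = y * a := by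
  obtain ⟨A, hA, haA, htA⟩ := hc.toCl.exists_four_typ hu₁ hv₁ hu₁S hv₁S hne₁ ha hta
  obtain ⟨a₁, ha₁A, ha₁1, ha₁a⟩ : ∃ a₁ ∈ A, a₁ ≠ 1 ∧ a ≠ a₁ := by
    by_contra hcon
    push Not at hcon
    have hsub : (A : Set G) ⊆ {1, a} := fun x hx => by
      by_cases hx1 : x = 1
      · exact Or.inl hx1
      · exact Or.inr (hcon x hx hx1).symm
    have h1 := Set.ncard_le_ncard hsub (Set.toFinite _)
    rw [Set.ncard_pair (Invol.ne_one ha).symm, ← Nat.card_coe_set_eq, SetLike.coe_sort_coe, hA.2] at h1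
    omega
  have ha₁ : orderOf a₁ = 2 := orderOf_eq_prime (hA.1.2 a₁ ha₁A) ha₁1
  set H := centralizer (A : Set G) with hH
  set P := Pc S₁ S₂ A with hP
  have hHP : H ≤ normalizer (P : Set G) := hc.centralizer_le_normalizer_Pc A
  -- every involution of type two lies in `H ⊔ P`
  have claim : ∀ b : G, orderOf b = 2 → Typ S₂ b → b ∈ H ⊔ P := by
    intro b hb htb
    obtain ⟨x, b', -, -, hb'2, htb', hcab, hxo, hbx, hax, hb'x⟩ :=
      hc.toCl.exists_commuting ha hb hta htb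
    obtain ⟨x', b'', hx'c, hb''c, hb''2, htb'', hca1, hx'o, hb'x', ha1x', hb''x'⟩ :=
      hc.toCl.exists_commuting ha₁ hb'2 (htA a₁ ha₁A) htb'
    have hcl : closure ({a₁, b'} : Set G) ≤ centralizer ({a} : Set G) := by
      refine (closure_le _).2 ?_
      rintro z (rfl | rfl)
      · haveI := hA.1.1
        exact mem_centralizer_singleton_iff.2 (setLike_mul_comm ha₁A haA)
      · exact mem_centralizer_singleton_iff.2 hcab.symm
    have hax' : x' * a * x'⁻¹ = a := by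
      rw [mem_centralizer_singleton_iff.1 (hcl hx'c), mul_inv_cancel_right]
    have hb''H : b'' ∈ H := by
      refine (centralizer_le (hA.le_closure haA ha₁A (Invol.ne_one ha) ha₁1 ha₁a)) ?_
      rw [centralizer_closure]
      refine mem_centralizer_iff.2 ?_
      rintro z (rfl | rfl)
      · exact (mem_centralizer_singleton_iff.1 (hcl hb''c)).symm
      · exact hca1
    obtain ⟨V, hpair, hb''V⟩ :=
      hc.toCl.exists_pair hu₂ hv₂ hu₂S hv₂S hne₂ hA htA hb''2 hb''H htb''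
    have hx'W : x' ∈ Wc A V := hc.inverted_mem_Wc hpair ha₁A ha₁1 hb''V hx'o ha1x' hb''x'
    have hW : Wc (A.map (MulAut.conj x').toMonoidHom) (V.map (MulAut.conj x').toMonoidHom) ≤ Wc A V := by
      intro w hw
      have h1 : x'⁻¹ * w * x'⁻¹⁻¹ ∈ Wc A V := by
        refine conj_Wc_mem ?_ hw
        have e : (MulAut.conj x'⁻¹).toMonoidHom.comp (MulAut.conj x').toMonoidHom = MonoidHom.id G := by
          ext z
          simp [mul_assoc]
        rw [Subgroup.map_map, Subgroup.map_map, e, Subgroup.map_id, Subgroup.map_id]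
      have h2 := mul_mem (mul_mem hx'W h1) (inv_mem hx'W)
      rwa [show x' * (x'⁻¹ * w * x'⁻¹⁻¹) * x'⁻¹ = w by group] at h2
    have hxW : x ∈ Wc A V := by
      refine hW (hc.inverted_mem_Wc (hpair.conj x') ⟨a, haA, by simpa using hax'⟩ (Invol.ne_one ha)
        ⟨b'', hb''V, by simpa using hb'x'.symm⟩ hxo hax hb'x)
    have hP' : Wc A V ≤ H ⊔ P := (Wc_le_Pc hpair).trans le_sup_right
    rw [hbx, hb'x']
    exact mul_mem (mul_mem (hP' hxW) (mul_mem (mul_mem (hP' hx'W) (mem_sup_left hb''H))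
      (inv_mem (hP' hx'W)))) (inv_mem (hP' hxW))
  -- the subgroup generated by them
  set P₂ := normalClosure {b : G | orderOf b = 2 ∧ Typ S₂ b} with hP₂
  haveI hP₂n : P₂.Normal := normalClosure_normal
  have hP₂le : P₂ ≤ H ⊔ P := by
    refine (closure_le _).2 fun z hz => ?_
    obtain ⟨b, ⟨hb, htb⟩, hbz⟩ := Group.mem_conjugatesOfSet_iff.1 hz
    obtain ⟨k, rfl⟩ := isConj_iff.1 hbz
    exact claim _ (by rw [Invol.orderOf_conj_eq, hb]) (htb.conj k)
  have hbot : P ⊓ P₂ = ⊥ := by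
    have hn : ((P ⊓ P₂).subgroupOf P₂).Normal := by
      refine (normal_subgroupOf_iff_le_normalizer inf_le_right).2 ?_
      exact Sig.SSFT.inf_le_normalizer (hP₂le.trans (sup_le hHP le_normalizer))
        le_normalizer
    have hodd : Odd (Nat.card ((P ⊓ P₂).subgroupOf P₂)) := by
      rw [Nat.card_congr (subgroupOfEquivOfLe (inf_le_right : P ⊓ P₂ ≤ P₂)).toEquiv]
      exact (hc.odd_Pc A).of_dvd_nat (card_dvd_of_le inf_le_left)
    have hO2 : Cfsg.oddCore P₂ = ⊥ := by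
      have h1 : ((Cfsg.oddCore P₂).map P₂.subtype).Normal := ConjAct.normal_of_characteristic_of_normal
      have h2 : (Cfsg.oddCore P₂).map P₂.subtype ≤ Cfsg.oddCore G :=
        ZStar.le_oddCore h1 (by rw [card_map_of_injective P₂.subtype_injective]; exact ZStar.odd_card_oddCore)
      rwa [hO, le_bot_iff, map_eq_bot_iff_of_injective _ P₂.subtype_injective] at h2
    have h3 := (ZStar.le_oddCore hn hodd).trans hO2.le
    rw [← map_subgroupOf_eq_of_le (inf_le_right : P ⊓ P₂ ≤ P₂), le_bot_iff.1 h3, Subgroup.map_bot]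
  have hyP₂ : y ∈ P₂ := subset_normalClosure ⟨hy, hty⟩
  obtain ⟨k, hk, p, hp, hkp⟩ := (Core.mem_sup_of_le_normalizer hHP).1 (hP₂le hyP₂)
  have haH : a ∈ H := by
    refine mem_centralizer_iff.2 fun z hz => ?_
    haveI := hA.1.1
    exact setLike_mul_comm hz haA
  have hak : a * k = k * a := mem_centralizer_iff.1 hk a haA
  have h1 : a * y * a⁻¹ * y⁻¹ ∈ P := by
    have e : a * y * a⁻¹ * y⁻¹ = k * (a * p * a⁻¹ * p⁻¹) * k⁻¹ := by
      rw [← hkp]
      calc a * (k * p) * a⁻¹ * (k * p)⁻¹ = (a * k) * p * a⁻¹ * p⁻¹ * k⁻¹ := by group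
        _ = _ := by rw [hak]; group
    rw [e]
    exact Sig.invariant_of_le_normalizer hHP k hk _
      (mul_mem (Sig.invariant_of_le_normalizer hHP a haH p hp) (inv_mem hp))
  have h2 : a * y * a⁻¹ * y⁻¹ ∈ P ⊓ P₂ := ⟨h1, Subgroup.mul_mem _ (hP₂n.conj_mem y hyP₂ a) (Subgroup.inv_mem _ hyP₂)⟩
  rw [hbot, mem_bot, mul_inv_eq_one, mul_inv_eq_iff_eq_mul] at h2
  exact h2

end Cfsg.Lib.Goldschmidt.Product
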