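import Cfsg.Agent.Lib.Goldschmidt.ProductHered
import Cfsg.Agent.Lib.Sig.CoreSeparated
import Cfsg.Agent.Lib.Sig.SSFT.Apply
import Cfsg.Agent.Lib.FTCons.CoreClosure
import Cfsg.Agent.Lib.ZStar.Basic
import Cfsg.Agent.S0205

/-!
# The signalizer functor of a pair of four groups of the two types, and linked pairs
-/

set_option autoImplicit false
set_option linter.unusedSectionVars false
set_option linter.style.haveILetI false

namespace Cfsg.Lib.Goldschmidt.Product

open Subgroup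
open Cfsg.Lib.Sig.CoreSep (O C theta₁ theta)
open scoped commutatorElement

universe u

/-- The theorem holds for all groups of order below `n`. -/
def Below (n : ℕ) : Prop :=
  ∀ (H : Type u) [Group H] [Finite H], Nat.card H < n → ProductHolds H

theorem ft : ∀ (H : Type u) [Group H] [Finite H], Odd (Nat.card H) → Group.IsSolvable H :=
  fun _ _ _ h => Cfsg.Agent.S0205.result h

variable {G : Type u} [Group G] [Finite G]

/-- A minimal configuration with trivial center. -/
structure Ctx (S : Sylow 2 G) (S₁ S₂ : Subgroup G) : Prop extends Cl S S₁ S₂ where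
  hZ : center G = ⊥
  ih : Below.{u} (Nat.card G)

/-- A commuting pair of four groups of types one and two. -/
structure GPair (S₁ S₂ A B : Subgroup G) : Prop where
  fA : Four A
  fB : Four B
  tA : ∀ x ∈ A, Typ S₁ x
  tB : ∀ x ∈ B, Typ S₂ x
  comm : ∀ x ∈ A, ∀ y ∈ B, x * y = y * x

variable {S : Sylow 2 G} {S₁ S₂ A B : Subgroup G}

theorem Ctx.symm (hc : Ctx S S₁ S₂) : Ctx S S₂ S₁ := ⟨hc.toCl.symm, hc.hZ, hc.ih⟩

theorem GPair.symm (h : GPair S₁ S₂ A B) : GPair S₂ S₁ B A :=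
  ⟨h.fB, h.fA, h.tB, h.tA, fun x hx y hy => (h.comm y hy x hx).symm⟩

/-- Conjugates of a pair. -/
theorem GPair.conj (h : GPair S₁ S₂ A B) (u : G) :
    GPair S₁ S₂ (A.map (MulAut.conj u).toMonoidHom) (B.map (MulAut.conj u).toMonoidHom) := by
  have key : ∀ {R : Subgroup G}, Four R → Four (R.map (MulAut.conj u).toMonoidHom) := by
    intro R hR
    refine ⟨⟨⟨⟨?_⟩⟩, ?_⟩, by rw [card_map_of_injective (MulAut.conj u).injective, hR.2]⟩
    · rintro ⟨_, x, hx, rfl⟩ ⟨_, y, hy, rfl⟩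
      haveI := hR.1.1
      exact Subtype.ext (by simp only [Subgroup.coe_mul, ← map_mul, setLike_mul_comm hx hy])
    · rintro _ ⟨x, hx, rfl⟩
      rw [← map_pow, hR.1.2 x hx, map_one]
  refine ⟨key h.fA, key h.fB, ?_, ?_, ?_⟩
  · rintro _ ⟨x, hx, rfl⟩
    exact (h.tA x hx).conj u
  · rintro _ ⟨x, hx, rfl⟩
    exact (h.tB x hx).conj u
  · rintro _ ⟨x, hx, rfl⟩ _ ⟨y, hy, rfl⟩
    rw [← map_mul, ← map_mul, h.comm x hx y hy]

theorem GPair.elem (h : GPair S₁ S₂ A B) : Cfsg.IsElementaryAbelian 2 (A ⊔ B : Subgroup G) := by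
  have hB : B ≤ centralizer (A : Set G) := fun y hy => mem_centralizer_iff.2 fun x hx => h.comm x hx y hy
  have hsup : A ⊔ B ≤ centralizer ((A ⊔ B : Subgroup G) : Set G) := by
    refine sup_le ?_ ?_ <;> rw [le_centralizer_iff] <;> refine sup_le ?_ ?_
    · exact le_centralizer_iff_isMulCommutative.2 h.fA.1.1
    · exact hB
    · exact le_centralizer_iff.1 hB
    · exact le_centralizer_iff_isMulCommutative.2 h.fB.1.1
  refine ⟨le_centralizer_iff_isMulCommutative.1 hsup, fun x hx => ?_⟩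
  rw [← SetLike.mem_coe, coe_mul_of_right_le_normalizer_left A B
    (hB.trans (centralizer_le_normalizer _))] at hx
  obtain ⟨a, ha, b, hb, rfl⟩ := hx
  show (a * b) ^ 2 = 1
  rw [(show Commute a b from h.comm a ha b hb).mul_pow, h.fA.1.2 a ha, h.fB.1.2 b hb, one_mul]

theorem GPair.isPGroup (h : GPair S₁ S₂ A B) : IsPGroup 2 (A ⊔ B : Subgroup G) := fun x =>
  ⟨1, Subtype.ext (by simpa using h.elem.2 x x.2)⟩

theorem GPair.le_C (h : GPair S₁ S₂ A B) {a : G} (ha : a ∈ A ⊔ B) : A ⊔ B ≤ C a := fun y hy => by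
  haveI := h.elem.1
  exact mem_centralizer_singleton_iff.2 (setLike_mul_comm hy ha)

theorem Ctx.inf_eq_bot (hc : Ctx S S₁ S₂) (h : GPair S₁ S₂ A B) : A ⊓ B = ⊥ :=
  eq_bot_iff.2 fun x hx => hc.eq_one_of_typ (h.tA x hx.1) (h.tB x hx.2)

theorem Ctx.centralizer_ne_top (hc : Ctx S S₁ S₂) {a : G} (ha : a ≠ 1) :
    centralizer ({a} : Set G) ≠ ⊤ := fun he => ha (by
  have h1 : a ∈ center G := mem_center_iff.2 fun g =>
    mem_centralizer_singleton_iff.1 (he ▸ mem_top g : g ∈ centralizer ({a} : Set G))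
  rwa [hc.hZ, mem_bot] at h1)

/-- The two normal closures in a centralizer commute modulo its core. -/
theorem Ctx.local_closures (hc : Ctx S S₁ S₂) (h : GPair S₁ S₂ A B) {c : G} (hcm : c ∈ A ⊔ B) (hc1 : c ≠ 1) :
    ∃ K₁ K₂ : Subgroup ↥(C c), K₁.Normal ∧ K₂.Normal ∧ ⁅K₁, K₂⁆ ≤ Cfsg.pPrimeCore 2 ↥(C c) ∧
      A.subgroupOf (C c) ≤ K₁ ∧ B.subgroupOf (C c) ≤ K₂ := by
  obtain ⟨T, T₁, T₂, hT, hT1, hT2⟩ := hc.toCl.subgroup (C c) h.isPGroup (h.le_C hcm)
  refine ⟨normalClosure (T₁ : Set ↥(C c)), normalClosure (T₂ : Set ↥(C c)), normalClosure_normal,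
    normalClosure_normal, hc.ih ↥(C c) (Core.lt_card_of_ne_top (hc.centralizer_ne_top hc1)) T T₁ T₂
      hT.h1 hT.h2 hT.comm hT.disj, ?_, ?_⟩
  · exact fun x hx => subset_normalClosure (hT1 x (mem_sup_left hx) (h.tA _ hx))
  · exact fun x hx => subset_normalClosure (hT2 x (mem_sup_right hx) (h.tB _ hx))

/-- A pair is core separated. -/
theorem Ctx.pair (hc : Ctx S S₁ S₂) (h : GPair S₁ S₂ A B) : Sig.CoreSep.Pair A B := by
  refine ⟨h.fA.1, h.fB.1, h.fA.2, h.fB.2, h.comm, fun a ha ha1 K hK => ?_⟩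
  obtain ⟨K₁, K₂, hn1, hn2, h12, hA, hB⟩ := hc.local_closures h ha ha1
  have key : ∀ (N : Subgroup ↥(C a)), N.Normal → K ≤ N.map (Sig.CoreSep.quo a) ∨
      N.map (Sig.CoreSep.quo a) ≤ centralizer (SetLike.coe K) := by
    intro N hN
    have := hN.map (Sig.CoreSep.quo a) (QuotientGroup.mk'_surjective _)
    rcases Core.component_le_or_commute hK this.isSubnormal with h1 | h1
    · exact Or.inl h1
    · refine Or.inr fun x hx => mem_centralizer_iff.2 fun k hk => ?_
      exact Core.commutator_eq_bot_iff_forall.1 h1 k hk x hx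
  rcases key K₁ hn1 with h1 | h1
  · rcases key K₂ hn2 with h2 | h2
    · exfalso
      have h3 : ⁅K, K⁆ ≤ (Cfsg.pPrimeCore 2 ↥(C a)).map (Sig.CoreSep.quo a) :=
        (commutator_mono h1 h2).trans ((Subgroup.map_commutator K₁ K₂ _).ge.trans (map_mono h12))
      rw [Core.IsComponent.commutator_eq hK,
        (Subgroup.map_eq_bot_iff _).2 (QuotientGroup.ker_mk' _).ge, le_bot_iff] at h3
      exact Core.IsComponent.ne_bot hK h3
    · exact Or.inr ((map_mono hB).trans h2)
  · exact Or.inl ((map_mono hA).trans h1)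

theorem Ctx.setup (hc : Ctx S S₁ S₂) (h : GPair S₁ S₂ A B) :
    Sig.SSFT.Setup 2 (A ⊔ B) (theta A B) := by
  haveI : Fact (Nat.Prime 2) := ⟨Nat.prime_two⟩
  refine ⟨h.elem, ?_, Sig.CoreSep.isSignalizerFunctor ft (hc.pair h), fun a ha _ => ?_⟩
  · obtain ⟨k, hk⟩ := IsPGroup.iff_card.1 h.isPGroup
    rw [hk]
    refine Nat.pow_le_pow_right (by norm_num) ?_
    by_contra hlt
    have h1 := Nat.pow_le_pow_right (show 1 ≤ 2 by norm_num) (show k ≤ 2 by omega)
    rw [← hk] at h1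
    have hAe : A = A ⊔ B := eq_of_le_of_card_ge le_sup_left (h1.trans h.fA.2.ge)
    have hBA : B ≤ A := le_sup_right.trans hAe.ge
    have h2 := hc.inf_eq_bot h
    rw [inf_eq_right.2 hBA] at h2
    have h3 := h.fB.2
    rw [h2, Subgroup.card_bot] at h3
    norm_num at h3
  · exact ft _ ((Sig.CoreSep.odd_O a).of_dvd_nat (card_dvd_of_le (inf_le_left.trans
      (Sig.CoreSep.theta₁_le_O ft ((le_sup_left.trans (h.le_C ha)).trans
        (Sig.CoreSep.C_le_normalizer_O a))))))

/-- The closure of the functor of a pair. -/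
noncomputable def Wc (A B : Subgroup G) : Subgroup G :=
  ⨆ a : {a : G // a ∈ A ⊔ B ∧ a ≠ 1}, theta A B a

theorem Wc_comm (A B : Subgroup G) : Wc A B = Wc B A := by
  have key : ∀ A B : Subgroup G, Wc A B ≤ Wc B A := fun A B => iSup_le fun a =>
    le_iSup_of_le (f := fun a : {a : G // a ∈ B ⊔ A ∧ a ≠ 1} => theta B A a)
      ⟨a, sup_comm A B ▸ a.2.1, a.2.2⟩ (inf_comm _ _).le
  exact le_antisymm (key A B) (key B A)

theorem theta_le_Wc {a : G} (ha : a ∈ A ⊔ B) (ha1 : a ≠ 1) : theta A B a ≤ Wc A B :=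
  le_iSup (fun a : {a : G // a ∈ A ⊔ B ∧ a ≠ 1} => theta A B a) ⟨a, ha, ha1⟩

theorem Ctx.odd_Wc (hc : Ctx S S₁ S₂) (h : GPair S₁ S₂ A B) : Odd (Nat.card (Wc A B)) := by
  haveI : Fact (Nat.Prime 2) := ⟨Nat.prime_two⟩
  exact Nat.not_even_iff_odd.1 fun he => (hc.setup h).closure_mem.2.1 (even_iff_two_dvd.1 he)

theorem Ctx.Wc_le (hc : Ctx S S₁ S₂) (h : GPair S₁ S₂ A B) {X : Subgroup G}
    (hX : ∀ x ∈ A, x ≠ 1 → theta A B x ≤ X) : Wc A B ≤ X := by
  haveI : Fact (Nat.Prime 2) := ⟨Nat.prime_two⟩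
  refine le_trans ((hc.setup h).closure_eq (E := A) le_sup_left (by rw [h.fA.2]; norm_num)).ge ?_
  exact iSup_le fun x => hX x x.2.1 x.2.2

theorem GPair.le_normalizer_O (h : GPair S₁ S₂ A B) {a : G} (ha : a ∈ A ⊔ B) :
    A ⊔ B ≤ normalizer (O a : Set G) := (h.le_C ha).trans (Sig.CoreSep.C_le_normalizer_O a)

theorem coprime_four {U X : Subgroup G} (hU : Four U) (hX : Odd (Nat.card X)) :
    (Nat.card U).Coprime (Nat.card X) := by
  rw [hU.2]
  exact Nat.Coprime.pow_left 2 (Nat.coprime_two_left.2 hX)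

/-- For `x ∈ A` the `A`-factor is all of `O(C(x))`. -/
theorem GPair.theta₁_self (h : GPair S₁ S₂ A B) {x : G} (hx : x ∈ A) : theta₁ A x = O x := by
  have hn : A ≤ normalizer (O x : Set G) := le_sup_left.trans (h.le_normalizer_O (mem_sup_left hx))
  refine le_antisymm (Sig.CoreSep.theta₁_le_O ft hn) ?_
  conv_lhs => rw [← Coprime.commutator_sup_centralizer_eq hn (coprime_four h.fA (Sig.CoreSep.odd_O x))
    (Or.inr (ft _ (Sig.CoreSep.odd_O x)))]
  refine sup_le_sup le_rfl (le_inf inf_le_left (Sig.CoreSep.le_P inf_le_right ?_ ?_))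
  · exact Sig.SSFT.inf_le_normalizer ((centralizer_le (Set.singleton_subset_iff.2 hx)).trans
      (Sig.CoreSep.C_le_normalizer_O x)) le_normalizer
  · exact (Sig.CoreSep.odd_O x).of_dvd_nat (card_dvd_of_le inf_le_left)

/-- The value at a point of `A` does not depend on `A`. -/
theorem GPair.theta_left (h : GPair S₁ S₂ A B) {x : G} (hx : x ∈ A) :
    theta A B x = theta₁ B x := by
  rw [theta, h.theta₁_self hx, inf_eq_right]
  exact Sig.CoreSep.theta₁_le_O ft (le_sup_right.trans (h.le_normalizer_O (mem_sup_left hx)))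

theorem GPair.theta_right (h : GPair S₁ S₂ A B) {z : G} (hz : z ∈ B) :
    theta A B z = theta₁ A z := by
  rw [theta, inf_comm]
  exact h.symm.theta_left hz

/-- Linked pairs have the same closure. -/
theorem Ctx.link_le (hc : Ctx S S₁ S₂) {V : Subgroup G} (h : GPair S₁ S₂ A B) (h' : GPair S₁ S₂ A V)
    {z : G} (hzB : z ∈ B) (hzV : z ∈ V) (hz1 : z ≠ 1) : Wc A V ≤ Wc A B := by
  haveI : Fact (Nat.Prime 2) := ⟨Nat.prime_two⟩
  refine hc.Wc_le h' fun x hx hx1 => ?_
  set D := theta A V x with hD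
  have hDO : D ≤ O x := by
    rw [hD, h'.theta_left hx]
    exact Sig.CoreSep.theta₁_le_O ft (le_sup_right.trans (h'.le_normalizer_O (mem_sup_left hx)))
  have hzn : zpowers z ≤ normalizer (D : Set G) :=
    zpowers_le.2 ((hc.setup h').le_normalizer_theta (mem_sup_left hx) hx1 (mem_sup_right hzV))
  have hz2 : z ^ 2 = 1 := h.fB.1.2 z hzB
  have hodd : Odd (Nat.card D) := (Sig.CoreSep.odd_O x).of_dvd_nat (card_dvd_of_le hDO)
  have hcop : (Nat.card (zpowers z)).Coprime (Nat.card D) := by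
    rw [Nat.card_zpowers, orderOf_eq_prime hz2 hz1]
    exact Nat.coprime_two_left.2 hodd
  rw [← Coprime.commutator_sup_centralizer_eq hzn hcop (Or.inr (ft _ hodd))]
  refine sup_le ?_ ?_
  · refine le_trans ((commutator_mono hDO (zpowers_le.2 hzB)).trans ?_)
      (theta_le_Wc (mem_sup_left hx) hx1)
    rw [h.theta_left hx]
    exact le_sup_left
  · refine le_trans ?_ (theta_le_Wc (mem_sup_right hzB) hz1)
    rw [h.theta_right hzB, ← h'.theta_right hzV]
    refine le_trans (inf_le_inf_left _ (centralizer_le ?_))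
      ((hc.setup h').balance (mem_sup_left hx) hx1 (mem_sup_right hzV) hz1)
    exact Set.singleton_subset_iff.2 (mem_zpowers z)

theorem Ctx.link (hc : Ctx S S₁ S₂) {V : Subgroup G} (h : GPair S₁ S₂ A B) (h' : GPair S₁ S₂ A V)
    {z : G} (hzB : z ∈ B) (hzV : z ∈ V) (hz1 : z ≠ 1) : Wc A V = Wc A B :=
  le_antisymm (hc.link_le h h' hzB hzV hz1) (hc.link_le h' h hzV hzB hz1)

theorem Ctx.link_left (hc : Ctx S S₁ S₂) {U : Subgroup G} (h : GPair S₁ S₂ A B) (h' : GPair S₁ S₂ U B)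
    {x : G} (hxA : x ∈ A) (hxU : x ∈ U) (hx1 : x ≠ 1) : Wc U B = Wc A B := by
  rw [Wc_comm U B, Wc_comm A B]
  exact hc.symm.link h.symm h'.symm hxA hxU hx1

theorem theta₁_map_conj (V : Subgroup G) (a u : G) :
    (theta₁ V a).map (MulAut.conj u).toMonoidHom ≤
      theta₁ (V.map (MulAut.conj u).toMonoidHom) (u * a * u⁻¹) := by
  set c := (MulAut.conj u).toMonoidHom with hcdef
  have hinj : Function.Injective c := (MulAut.conj u).injective
  have hO : (O a).map c ≤ O (u * a * u⁻¹) := FTCons.centralizerPPrimeCore_map_conj 2 u a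
  have hcen : ∀ (W : Subgroup G) (w : G) (_ : w ∈ centralizer (W : Set G)),
      c w ∈ centralizer ((W.map c : Subgroup G) : Set G) := fun W w hw => mem_centralizer_iff.2 (by
    rintro _ ⟨y, hy, rfl⟩
    rw [← map_mul, ← map_mul, mem_centralizer_iff.1 hw y hy])
  have hP : (Sig.CoreSep.P V).map c ≤ Sig.CoreSep.P (V.map c) := by
    refine Sig.CoreSep.le_P ?_ ?_ ?_
    · rintro _ ⟨y, hy, rfl⟩
      exact hcen V y (Sig.CoreSep.P_le V hy)
    · intro g hg
      have hg' : u⁻¹ * g * u ∈ centralizer (V : Set G) := mem_centralizer_iff.2 fun v hv => by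
        have h1 := mem_centralizer_iff.1 hg (c v) (mem_map_of_mem c hv)
        rw [hcdef, MulEquiv.coe_toMonoidHom, MulAut.conj_apply] at h1
        calc v * (u⁻¹ * g * u) = u⁻¹ * (u * v * u⁻¹ * g) * u := by group
          _ = u⁻¹ * (g * (u * v * u⁻¹)) * u := by rw [h1]
          _ = u⁻¹ * g * u * v := by group
      have hgn := Sig.CoreSep.centralizer_le_normalizer_P V hg'
      rw [Core.mem_normalizer_iff_map_conj] at hgn ⊢
      have e : (MulAut.conj g).toMonoidHom.comp c = c.comp (MulAut.conj (u⁻¹ * g * u)).toMonoidHom := by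
        ext x
        simp [hcdef, mul_assoc]
      rw [Subgroup.map_map, e, ← Subgroup.map_map, hgn]
    · rw [card_map_of_injective hinj]
      exact ZStar.odd_card_oddCore.of_dvd_nat (Core.card_map_dvd _ _)
  rw [Subgroup.map_sup, Subgroup.map_commutator, Subgroup.map_inf _ _ _ hinj]
  exact sup_le_sup (commutator_mono hO le_rfl) (inf_le_inf hO hP)

theorem Wc_map_conj_le (A B : Subgroup G) (u : G) :
    (Wc A B).map (MulAut.conj u).toMonoidHom ≤
      Wc (A.map (MulAut.conj u).toMonoidHom) (B.map (MulAut.conj u).toMonoidHom) := by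
  set c := (MulAut.conj u).toMonoidHom with hcdef
  have hinj : Function.Injective c := (MulAut.conj u).injective
  unfold Wc
  rw [Subgroup.map_iSup]
  refine iSup_le fun a => ?_
  have hm : c a ∈ A.map c ⊔ B.map c := by rw [← Subgroup.map_sup]; exact mem_map_of_mem c a.2.1
  refine le_iSup_of_le ⟨c a, hm, fun e => a.2.2 (hinj (e.trans (map_one c).symm))⟩ ?_
  rw [Subgroup.map_inf _ _ _ hinj]
  exact inf_le_inf (theta₁_map_conj A _ u) (theta₁_map_conj B _ u)

/-- An element fixing the pair up to its closure normalizes the closure. -/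
theorem conj_Wc_mem {u w : G} {W : Subgroup G}
    (hW : Wc (A.map (MulAut.conj u).toMonoidHom) (B.map (MulAut.conj u).toMonoidHom) ≤ W)
    (hw : w ∈ Wc A B) : u * w * u⁻¹ ∈ W :=
  hW (Wc_map_conj_le A B u ⟨w, hw, rfl⟩)

/-- `O(C(x))` normalizes the closure of a pair with `x` in its first group. -/
theorem Ctx.O_le_normalizer_Wc (hc : Ctx S S₁ S₂) (h : GPair S₁ S₂ A B) {x : G} (hx : x ∈ A)
    (hx1 : x ≠ 1) : O x ≤ normalizer (Wc A B : Set G) := by
  have hn : B ≤ normalizer (O x : Set G) := le_sup_right.trans (h.le_normalizer_O (mem_sup_left hx))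
  rw [← Coprime.commutator_sup_centralizer_eq hn (coprime_four h.fB (Sig.CoreSep.odd_O x))
    (Or.inr (ft _ (Sig.CoreSep.odd_O x)))]
  refine sup_le ?_ ?_
  · refine le_trans (le_trans ?_ (theta_le_Wc (mem_sup_left hx) hx1)) le_normalizer
    rw [h.theta_left hx]
    exact le_sup_left
  · refine Sig.le_normalizer_of_invariant fun u hu w hw => conj_Wc_mem ?_ hw
    have huB : ∀ y ∈ B, u * y * u⁻¹ = y := fun y hy => by
      rw [← mem_centralizer_iff.1 hu.2 y hy, mul_inv_cancel_right]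
    have hB : B.map (MulAut.conj u).toMonoidHom = B := by
      ext y
      constructor
      · rintro ⟨z, hz, rfl⟩
        simpa [huB z hz] using hz
      · exact fun hy => ⟨y, hy, by simpa using huB y hy⟩
    have hxu : x ∈ A.map (MulAut.conj u).toMonoidHom := ⟨x, hx, by
      have h1 := mem_centralizer_singleton_iff.1 (Sig.CoreSep.O_le_C x hu.1)
      simp [h1]⟩
    have h' := h.conj u
    rw [hB] at h' ⊢
    exact (hc.link_left h h' hx hxu hx1).le

/-- For two pairs with the same first group the closures normalize each other. -/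
theorem Ctx.Wc_le_normalizer_Wc (hc : Ctx S S₁ S₂) {V : Subgroup G} (h : GPair S₁ S₂ A B)
    (h' : GPair S₁ S₂ A V) : Wc A B ≤ normalizer (Wc A V : Set G) :=
  hc.Wc_le h fun x hx hx1 => by
    rw [h.theta_left hx]
    exact (Sig.CoreSep.theta₁_le_O ft (le_sup_right.trans (h.le_normalizer_O (mem_sup_left hx)))).trans
      (hc.O_le_normalizer_Wc h' hx hx1)

/-- The product of the closures of all pairs with first group `A`. -/
noncomputable def Pc (S₁ S₂ A : Subgroup G) : Subgroup G :=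
  ⨆ V : {V : Subgroup G // GPair S₁ S₂ A V}, Wc A V.1

theorem Wc_le_Pc (h : GPair S₁ S₂ A B) : Wc A B ≤ Pc S₁ S₂ A :=
  le_iSup (fun V : {V : Subgroup G // GPair S₁ S₂ A V} => Wc A V.1) ⟨B, h⟩

theorem Ctx.odd_Pc (hc : Ctx S S₁ S₂) (A : Subgroup G) : Odd (Nat.card (Pc S₁ S₂ A)) := by
  set Q := Pc S₁ S₂ A with hQ
  have h1 : Q ≤ (Cfsg.oddCore Q).map Q.subtype := by
    refine iSup_le fun V => ?_
    have hle : Wc A V.1 ≤ Q := Wc_le_Pc V.2
    have hn : ((Wc A V.1).subgroupOf Q).Normal := (normal_subgroupOf_iff_le_normalizer hle).2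
      (iSup_le fun V' => hc.Wc_le_normalizer_Wc V'.2 V.2)
    rw [← map_subgroupOf_eq_of_le hle]
    refine map_mono (ZStar.le_oddCore hn ?_)
    rw [Nat.card_congr (subgroupOfEquivOfLe hle).toEquiv]
    exact hc.odd_Wc V.2
  have h2 : Odd (Nat.card ((Cfsg.oddCore Q).map Q.subtype)) := by
    rw [Core.card_map_subtype]
    exact ZStar.odd_card_oddCore
  exact h2.of_dvd_nat (card_dvd_of_le h1)

theorem Ctx.centralizer_le_normalizer_Pc (_hc : Ctx S S₁ S₂) (A : Subgroup G) :
    centralizer (A : Set G) ≤ normalizer (Pc S₁ S₂ A : Set G) := by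
  refine Sig.SSFT.le_normalizer_of_iSup (J := Pc S₁ S₂ A) le_rfl fun g hg V w hw => ?_
  have hA : A.map (MulAut.conj g).toMonoidHom = A := by
    have hfix : ∀ y ∈ A, g * y * g⁻¹ = y := fun y hy => by
      rw [← mem_centralizer_iff.1 hg y hy, mul_inv_cancel_right]
    ext y
    constructor
    · rintro ⟨z, hz, rfl⟩
      simpa [hfix z hz] using hz
    · exact fun hy => ⟨y, hy, by simpa using hfix y hy⟩
  have h' := V.2.conj g
  rw [hA] at h'
  refine conj_Wc_mem ?_ hw
  rw [hA]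
  exact Wc_le_Pc h'

end Cfsg.Lib.Goldschmidt.Product
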