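import Cfsg.Agent.Lib.Goldschmidt.ProductDef
import Mathlib.GroupTheory.Transfer
import Mathlib.GroupTheory.Commutator.Basic

/-!
# Consequences of the product theorem: splitting

If `O(G) = 1` and a Sylow 2-subgroup `S` is the direct product of two strongly closed subgroups
`S₁`, `S₂`, their normal closures commute, meet trivially and meet `S` in `S₁`, `S₂`. The passage
from commuting to meeting trivially is a transfer argument: a subgroup `B` of `S ⊓ N` which
centralises `N = ⟨T^G⟩` and complements the strongly closed `T` in `S ⊓ N` is trivial, because the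
transfer `N → (S ⊓ N)/T` kills every conjugate of an element of `T`.
-/

set_option autoImplicit false

open Subgroup

namespace Cfsg.Lib.Goldschmidt.Product

variable {G : Type*} [Group G] [Finite G]

theorem not_two_dvd_relIndex_inf (S : Sylow 2 G) (N : Subgroup G) [N.Normal] :
    ¬ 2 ∣ (((S : Subgroup G) ⊓ N).relIndex N) := by
  intro h
  apply S.not_dvd_index
  refine h.trans ?_
  rw [inf_relIndex_right, ← relIndex_mul_index (H := (S : Subgroup G))
    (K := (S : Subgroup G) ⊔ N) le_sup_left]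
  refine Dvd.dvd.mul_right ?_ _
  have e : ((S : Subgroup G) ⊔ N) = N ⊔ (S : Subgroup G) := sup_comm _ _
  have hc := card_mul_index ((S : Subgroup G).subgroupOf N)
  have hpos : 0 < Nat.card ((S : Subgroup G).subgroupOf N) := Nat.card_pos
  have h1 := relIndex_mul_relIndex ((S : Subgroup G) ⊓ N) N ((S : Subgroup G) ⊔ N)
    inf_le_right le_sup_right
  have h2 := relIndex_mul_relIndex ((S : Subgroup G) ⊓ N) (S : Subgroup G) ((S : Subgroup G) ⊔ N)
    inf_le_left le_sup_left
  have h3 : N.relIndex ((S : Subgroup G) ⊔ N) = N.relIndex (S : Subgroup G) := relIndex_sup_right _ _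
  rw [inf_relIndex_right] at h1
  rw [inf_relIndex_left, h3.symm] at h2
  have hne : N.relIndex ((S : Subgroup G) ⊔ N) ≠ 0 := index_ne_zero_of_finite
  have : (S : Subgroup G).relIndex N = (S : Subgroup G).relIndex ((S : Subgroup G) ⊔ N) :=
    Nat.eq_of_mul_eq_mul_right (Nat.pos_of_ne_zero hne) (by rw [h1, ← h2, mul_comm])
  rw [this]

/-- A subgroup centralising `N = ⟨T^G⟩` and complementing the strongly closed `T` in `S ⊓ N` is
trivial. -/
theorem central_complement_eq_bot (S : Sylow 2 G) {T B : Subgroup G}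
    (hT : Cfsg.IsStronglyClosed T (S : Subgroup G))
    (hB : B ≤ (S : Subgroup G) ⊓ normalClosure (T : Set G))
    (hcent : ∀ b ∈ B, ∀ n ∈ normalClosure (T : Set G), b * n = n * b)
    (hTB : T ⊓ B = ⊥)
    (hgen : (S : Subgroup G) ⊓ normalClosure (T : Set G) ≤ T ⊔ B) : B = ⊥ := by
  classical
  set N := normalClosure (T : Set G) with hN
  have hTN : T ≤ N := le_normalClosure
  let H : Subgroup N := ((S : Subgroup G)).subgroupOf N
  have hcommTB : T ≤ centralizer (B : Set G) := fun t ht b hb => hcent b hb t (hTN ht)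
  -- decomposition of an element of `S ⊓ N`
  have hdec : ∀ x : H, ∃ b : B, ∃ t ∈ T, ((x : N) : G) = t * b := by
    let U : Subgroup G :=
      { carrier := {z | ∃ b : B, ∃ t ∈ T, z = t * b}
        one_mem' := ⟨1, 1, one_mem T, by simp⟩
        mul_mem' := by
          rintro _ _ ⟨b, t, ht, rfl⟩ ⟨b', t', ht', rfl⟩
          refine ⟨b * b', t * t', mul_mem ht ht', ?_⟩
          simp only [coe_mul, mul_assoc]
          rw [← mul_assoc (b : G) t', hcent _ b.2 _ (hTN ht'), mul_assoc]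
        inv_mem' := by
          rintro _ ⟨b, t, ht, rfl⟩
          refine ⟨b⁻¹, t⁻¹, inv_mem ht, ?_⟩
          rw [mul_inv_rev, coe_inv]
          exact hcent _ (inv_mem b.2) _ (hTN (inv_mem ht)) }
    have hle : T ⊔ B ≤ U := sup_le (fun t ht => ⟨1, t, ht, by simp⟩)
      (fun b hb => ⟨⟨b, hb⟩, 1, one_mem T, by simp⟩)
    exact fun x => hle (hgen ⟨mem_subgroupOf.1 x.2, (x : N).2⟩)
  have huniq : ∀ t ∈ T, ∀ t' ∈ T, ∀ b b' : B, t * b = t' * b' → b = b' := by
    intro t ht t' ht' b b' e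
    have h1 : t'⁻¹ * t = (b' : G) * (b : G)⁻¹ := by
      rw [eq_mul_inv_iff_mul_eq, mul_assoc, e, inv_mul_cancel_left]
    have h2 : (b' : G) * (b : G)⁻¹ ∈ T ⊓ B :=
      mem_inf.2 ⟨h1 ▸ T.mul_mem (T.inv_mem ht') ht, B.mul_mem b'.2 (B.inv_mem b.2)⟩
    rw [hTB, mem_bot, mul_inv_eq_one] at h2
    exact Subtype.ext h2.symm
  choose f tf htf hf using hdec
  have hfmul : ∀ x y : H, f (x * y) = f x * f y := by
    intro x y
    refine huniq _ (htf (x * y)) _ (mul_mem (htf x) (htf y)) _ _ ?_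
    rw [← hf (x * y)]
    push_cast
    rw [hf x, hf y, mul_assoc, ← mul_assoc (f x : G), hcent _ (f x).2 _ (hTN (htf y))]
    group
  have hftriv : ∀ x : H, ((x : N) : G) ∈ T → f x = 1 := by
    intro x hx
    refine huniq _ (htf x) _ hx _ _ ?_
    rw [← hf x, OneMemClass.coe_one, mul_one]
  let φ : H →* B := MonoidHom.mk' f hfmul
  let _ : CommGroup B := { (inferInstance : Group B) with
    mul_comm := fun a b => Subtype.ext (hcent a a.2 b (hB b.2).2) }
  have hind : ¬ 2 ∣ H.index := by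
    have : H.index = ((S : Subgroup G) ⊓ N).relIndex N := by rw [inf_relIndex_right]; rfl
    rw [this]; exact not_two_dvd_relIndex_inf S N
  have hker : N.subgroupOf N ≤ (MonoidHom.transfer φ).ker := by
    -- every conjugate of an element of `T` is killed
    have hconj : ∀ x : N, (∃ g : G, ∃ t ∈ T, (x : G) = g * t * g⁻¹) →
        MonoidHom.transfer φ x = 1 := by
      rintro x ⟨g, t, ht, hx⟩
      have := H.fintypeQuotientOfFiniteIndex
      rw [MonoidHom.transfer_eq_prod_quotient_orbitRel_zpowers_quot]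
      refine Finset.prod_eq_one fun q _ => ?_
      apply hftriv
      push_cast
      set k := Function.minimalPeriod (x • ·) q.out
      have hS := mem_subgroupOf.1 (QuotientGroup.out_conj_pow_minimalPeriod_mem H x q.out)
      push_cast at hS
      have e : ((q.out.out : N) : G)⁻¹ * (x : G) ^ k * ((q.out.out : N) : G) =
          (((q.out.out : N) : G)⁻¹ * g) * t ^ k * (((q.out.out : N) : G)⁻¹ * g)⁻¹ := by
        rw [hx, conj_pow]; group
      rw [e] at hS ⊢
      exact hT.2 _ (pow_mem ht k) _ hS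
    rintro ⟨x, hxN⟩ _
    rw [MonoidHom.mem_ker]
    rw [hN, normalClosure] at hxN
    have hclos : ∀ y (hy : y ∈ N), MonoidHom.transfer φ ⟨y, hy⟩ = 1 := by
      intro y hy
      induction hy using Subgroup.closure_induction with
      | mem z hz =>
        obtain ⟨t, ht, hc⟩ := Group.mem_conjugatesOfSet_iff.1 hz
        obtain ⟨g, rfl⟩ := isConj_iff.1 hc
        exact hconj _ ⟨g, t, ht, rfl⟩
      | one => exact map_one (MonoidHom.transfer φ)
      | mul a b ha hb iha ihb =>
        have := map_mul (MonoidHom.transfer φ) ⟨a, ha⟩ ⟨b, hb⟩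
        rw [iha, ihb, one_mul] at this; exact this
      | inv a ha iha =>
        have := map_inv (MonoidHom.transfer φ) ⟨a, ha⟩
        rw [iha, inv_one] at this; exact this
    exact hclos x hxN
  rw [eq_bot_iff]
  intro b hb
  let bN : N := ⟨b, (hB hb).2⟩
  have hkey : ∀ (k : ℕ) (g₀ : N), g₀⁻¹ * bN ^ k * g₀ ∈ H → g₀⁻¹ * bN ^ k * g₀ = bN ^ k := by
    intro k g₀ _
    apply Subtype.ext
    push_cast
    rw [mul_assoc, hcent _ (pow_mem hb k) _ g₀.2, ← mul_assoc, inv_mul_cancel, one_mul]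
  have hv := MonoidHom.transfer_eq_pow φ bN hkey
  have h1 : MonoidHom.transfer φ bN = 1 :=
    MonoidHom.mem_ker.1 (hker (mem_subgroupOf.2 bN.2))
  rw [h1] at hv
  set y : H := ⟨bN ^ H.index, MonoidHom.transfer_eq_pow_aux bN hkey⟩
  have h2 : f y = ⟨b ^ H.index, pow_mem hb _⟩ := by
    refine huniq _ (htf y) _ (one_mem T) _ _ ?_
    rw [← hf y, one_mul]; rfl
  have h3 : b ^ H.index = 1 := by
    have : f y = 1 := hv.symm
    rw [h2] at this
    exact congrArg Subtype.val this
  obtain ⟨e, he⟩ := S.isPGroup' ⟨b, (hB hb).1⟩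
  have he' : b ^ 2 ^ e = 1 := congrArg Subtype.val he
  have hcop : Nat.Coprime H.index (2 ^ e) :=
    Nat.Coprime.pow_right _ ((Nat.prime_two.coprime_iff_not_dvd.2 hind).symm)
  have ho : orderOf b ∣ 1 := by
    rw [← hcop.gcd_eq_one]
    exact Nat.dvd_gcd (orderOf_dvd_of_pow_eq_one h3) (orderOf_dvd_of_pow_eq_one he')
  rw [mem_bot]
  exact orderOf_eq_one_iff.1 (Nat.dvd_one.1 ho)

theorem inf_sylow_eq_of_commute (S : Sylow 2 G) {S₁ S₂ : Subgroup G}
    (hprod : Cfsg.IsInternalDirectProduct S₁ S₂ (S : Subgroup G))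
    (hcl₁ : Cfsg.IsStronglyClosed S₁ (S : Subgroup G))
    (hcomm : ∀ a ∈ normalClosure (S₁ : Set G), ∀ b ∈ normalClosure (S₂ : Set G), a * b = b * a) :
    (S : Subgroup G) ⊓ normalClosure (S₁ : Set G) = S₁ := by
  obtain ⟨h1, h2, hc, hd, hsup⟩ := hprod
  set N := normalClosure (S₁ : Set G) with hN
  let U : Subgroup G :=
    { carrier := {z | ∃ t ∈ S₁, ∃ b ∈ S₂, z = t * b}
      one_mem' := ⟨1, one_mem _, 1, one_mem _, by simp⟩
      mul_mem' := by
        rintro _ _ ⟨t, ht, b, hb, rfl⟩ ⟨t', ht', b', hb', rfl⟩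
        refine ⟨t * t', mul_mem ht ht', b * b', mul_mem hb hb', ?_⟩
        simp only [mul_assoc]
        rw [← mul_assoc b t', ← hc t' ht' b hb, mul_assoc]
      inv_mem' := by
        rintro _ ⟨t, ht, b, hb, rfl⟩
        refine ⟨t⁻¹, inv_mem ht, b⁻¹, inv_mem hb, ?_⟩
        rw [mul_inv_rev]
        exact (hc _ (inv_mem ht) _ (inv_mem hb)).symm }
  have hle : S₁ ⊔ S₂ ≤ U := sup_le (fun t ht => ⟨t, ht, 1, one_mem _, by simp⟩)
    (fun b hb => ⟨1, one_mem _, b, hb, by simp⟩)
  have hdec : ∀ x ∈ (S : Subgroup G) ⊓ N, ∃ t ∈ S₁, ∃ b ∈ N ⊓ S₂, x = t * b := by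
    intro x hx
    obtain ⟨t, ht, b, hb, rfl⟩ := hle (hsup.symm ▸ hx.1)
    refine ⟨t, ht, b, ⟨?_, hb⟩, rfl⟩
    have hx2 := mul_mem (inv_mem (subset_normalClosure ht : t ∈ N)) hx.2
    rwa [inv_mul_cancel_left] at hx2
  have hB : N ⊓ S₂ = ⊥ := by
    refine central_complement_eq_bot S hcl₁ (le_inf (inf_le_right.trans h2) inf_le_left) ?_ ?_ ?_
    · intro b hb n hn
      exact (hcomm n hn b (subset_normalClosure hb.2)).symm
    · rw [eq_bot_iff, ← hd]
      exact inf_le_inf_left _ inf_le_right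
    · intro x hx
      obtain ⟨t, ht, b, hb, rfl⟩ := hdec x hx
      exact mul_mem_sup ht hb
  refine le_antisymm ?_ (le_inf h1 le_normalClosure)
  intro x hx
  obtain ⟨t, ht, b, hb, rfl⟩ := hdec x hx
  rw [hB, mem_bot] at hb
  rwa [hb, mul_one]

/-- If `O(G) = 1` and a Sylow 2-subgroup is the direct product of two strongly closed subgroups,
then their normal closures commute, meet trivially and meet the Sylow subgroup in them. -/
theorem split_of_sylow_product (hP : ProductHolds G) (hO : Cfsg.oddCore G = ⊥) (S : Sylow 2 G)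
    {S₁ S₂ : Subgroup G} (hprod : Cfsg.IsInternalDirectProduct S₁ S₂ (S : Subgroup G))
    (hcl₁ : Cfsg.IsStronglyClosed S₁ (S : Subgroup G))
    (hcl₂ : Cfsg.IsStronglyClosed S₂ (S : Subgroup G)) :
    (∀ a ∈ normalClosure (S₁ : Set G), ∀ b ∈ normalClosure (S₂ : Set G), a * b = b * a) ∧
      normalClosure (S₁ : Set G) ⊓ normalClosure (S₂ : Set G) = ⊥ ∧
      (S : Subgroup G) ⊓ normalClosure (S₁ : Set G) = S₁ ∧
      (S : Subgroup G) ⊓ normalClosure (S₂ : Set G) = S₂ := by
  obtain ⟨h1, h2, hc, hd, hsup⟩ := id hprod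
  have hbot := hP S S₁ S₂ hcl₁ hcl₂ hc hd
  rw [hO, le_bot_iff, commutator_eq_bot_iff_le_centralizer] at hbot
  have hcomm : ∀ a ∈ normalClosure (S₁ : Set G), ∀ b ∈ normalClosure (S₂ : Set G), a * b = b * a :=
    fun a ha b hb => (hbot ha b hb).symm
  have e₁ := inf_sylow_eq_of_commute S hprod hcl₁ hcomm
  have e₂ := inf_sylow_eq_of_commute S (S₁ := S₂) (S₂ := S₁)
    ⟨h2, h1, fun a ha b hb => (hc b hb a ha).symm, inf_comm S₁ S₂ ▸ hd, sup_comm S₁ S₂ ▸ hsup⟩
    hcl₂ (fun a ha b hb => (hcomm b hb a ha).symm)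
  refine ⟨hcomm, ?_, e₁, e₂⟩
  set D := normalClosure (S₁ : Set G) ⊓ normalClosure (S₂ : Set G) with hD
  have hDS : (S : Subgroup G) ⊓ D = ⊥ := by
    rw [eq_bot_iff, ← hd]
    exact le_inf (e₁ ▸ inf_le_inf_left _ inf_le_left) (e₂ ▸ inf_le_inf_left _ inf_le_right)
  have : D.Normal := by rw [hD]; infer_instance
  have hodd : Odd (Nat.card D) := by
    rw [← Nat.not_even_iff_odd, even_iff_two_dvd]
    have h := not_two_dvd_relIndex_inf S D
    rwa [hDS, relIndex_bot_left] at h
  rw [eq_bot_iff, ← hO]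
  exact le_sSup ⟨‹_›, (Nat.prime_two.coprime_iff_not_dvd.2
    (by rwa [← even_iff_two_dvd, Nat.not_even_iff_odd])).symm⟩

/-- The whole group splits if moreover it has no proper normal subgroup of odd index. -/
theorem group_split_of_sylow_product (hP : ProductHolds G) (hO : Cfsg.oddCore G = ⊥)
    (hO' : ∀ N : Subgroup G, N.Normal → Odd N.index → N = ⊤) (S : Sylow 2 G)
    {S₁ S₂ : Subgroup G} (hprod : Cfsg.IsInternalDirectProduct S₁ S₂ (S : Subgroup G))
    (hcl₁ : Cfsg.IsStronglyClosed S₁ (S : Subgroup G))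
    (hcl₂ : Cfsg.IsStronglyClosed S₂ (S : Subgroup G)) :
    Cfsg.IsInternalDirectProduct (normalClosure (S₁ : Set G)) (normalClosure (S₂ : Set G)) ⊤ ∧
      Odd (S₁.relIndex (normalClosure (S₁ : Set G))) ∧
      Odd (S₂.relIndex (normalClosure (S₂ : Set G))) := by
  obtain ⟨hcomm, hint, e₁, e₂⟩ := split_of_sylow_product hP hO S hprod hcl₁ hcl₂
  set N₁ := normalClosure (S₁ : Set G) with hN₁
  set N₂ := normalClosure (S₂ : Set G) with hN₂
  have hodd : ∀ n : ℕ, ¬ 2 ∣ n → Odd n := fun n h => by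
    rwa [← Nat.not_even_iff_odd, even_iff_two_dvd]
  have hle : (S : Subgroup G) ≤ N₁ ⊔ N₂ := by
    rw [← hprod.2.2.2.2]
    exact sup_le_sup le_normalClosure le_normalClosure
  have htop : N₁ ⊔ N₂ = ⊤ := hO' _ inferInstance
    (hodd _ fun h => S.not_dvd_index (h.trans (index_dvd_of_le hle)))
  refine ⟨⟨le_top, le_top, hcomm, hint, htop⟩, hodd _ ?_, hodd _ ?_⟩
  · have h := not_two_dvd_relIndex_inf S N₁
    rwa [e₁] at h
  · have h := not_two_dvd_relIndex_inf S N₂
    rwa [e₂] at h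

end Cfsg.Lib.Goldschmidt.Product
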